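import Cfsg.Agent.Lib.ClassSizesPSL2.NPart

/-!
A self-centralising subgroup of order `q` with `q + 1` conjugates.
-/

set_option autoImplicit false

namespace CfsgLib.CsPSL

open Subgroup
open CfsgLib.BSW (IsCC)

universe u

/-- An odd prime power adjacent to a power of two has exponent at most two. -/
theorem prime_pow_adj {p f k : ℕ} (hp : p.Prime) (hp2 : p ≠ 2) (hf : f ≠ 0) (hk : 2 ≤ k)
    (h : p ^ f + 1 = 2 ^ k ∨ p ^ f = 2 ^ k + 1) : f ≤ 2 := by
  have hp3 : 3 ≤ p := by have := hp.two_le; omega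
  have hpodd : Odd p := hp.odd_of_ne_two hp2
  rcases Nat.even_or_odd f with ⟨g, hg⟩ | hfo
  · -- even exponent
    rw [hg, pow_add] at h
    obtain ⟨r, hr⟩ : ∃ r, p ^ g = 2 * r + 1 := hpodd.pow
    rcases h with h | h
    · exfalso
      obtain ⟨k', rfl⟩ : ∃ k', k = k' + 2 := ⟨k - 2, by omega⟩
      rw [hr, pow_add, show (2 * r + 1) * (2 * r + 1) = 4 * (r * r + r) + 1 by ring] at h
      omega
    · rw [hr, show (2 * r + 1) * (2 * r + 1) = 4 * (r * (r + 1)) + 1 by ring] at h
      have h4 : r * (r + 1) ∣ 2 ^ k := ⟨4, by linarith⟩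
      obtain ⟨i, -, hi⟩ := (Nat.dvd_prime_pow Nat.prime_two).mp ((dvd_mul_right r (r + 1)).trans h4)
      obtain ⟨j, -, hj⟩ := (Nat.dvd_prime_pow Nat.prime_two).mp ((dvd_mul_left (r + 1) r).trans h4)
      have hr1 : r = 1 := by
        rcases i with _ | i
        · rw [hi, pow_zero]
        · rcases j with _ | j
          · rw [pow_zero] at hj; have := Nat.two_pow_pos (i + 1); omega
          · rw [pow_succ] at hi hj; omega
      have hg1 : g = 1 := by
        rcases g with _ | _ | g
        · omega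
        · rfl
        · exfalso
          have := Nat.pow_le_pow_right hp.pos (show 2 ≤ g + 1 + 1 by omega)
          nlinarith
      omega
  · -- odd exponent
    set S := ∑ i ∈ Finset.range f, (p : ℤ) ^ i with hS
    have main : ∀ y : ℤ, (y = 1 ∨ y = -1) → (p : ℤ) ^ f - y = 2 ^ k → f ≤ 2 := by
      intro y hy he
      have hyf : y ^ f = y := by rcases hy with rfl | rfl <;> simp [hfo.neg_one_pow]
      set T := ∑ i ∈ Finset.range f, (p : ℤ) ^ i * y ^ (f - 1 - i)
      have hT : T * ((p : ℤ) - y) = 2 ^ k := by rw [geom_sum₂_mul, hyf, he]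
      have hTodd : ((T : ℤ) : ZMod 2) = 1 := by
        have h1 : ((p : ℤ) : ZMod 2) = 1 := by
          obtain ⟨c, hc⟩ := hpodd
          have h0 : (2 : ZMod 2) = 0 := by decide
          rw [hc]; push_cast; rw [h0, zero_mul, zero_add]
        have h2 : ((y : ℤ) : ZMod 2) = 1 := by rcases hy with rfl | rfl <;> simp
        obtain ⟨c, hc⟩ := hfo
        push_cast at h1 ⊢
        simp only [T, Int.cast_sum, Int.cast_mul, Int.cast_pow, Int.cast_natCast, h1, h2, one_pow, mul_one,
          Finset.sum_const, Finset.card_range, nsmul_eq_mul, hc]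
        have h0 : (2 : ZMod 2) = 0 := by decide
        push_cast
        rw [h0, zero_mul, zero_add]
      have hT1 : T.natAbs = 1 := by
        have hd : T.natAbs ∣ 2 ^ k := by
          have := Int.natAbs_dvd_natAbs.mpr ⟨_, hT.symm⟩
          simpa [Int.natAbs_pow] using this
        obtain ⟨i, -, hi⟩ := (Nat.dvd_prime_pow Nat.prime_two).mp hd
        rcases i with _ | i
        · simpa using hi
        · exfalso
          have h2 : (2 : ℤ) ∣ T := by
            rw [← Int.natAbs_dvd_natAbs, hi]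
            exact dvd_pow_self 2 (by omega)
          have := (ZMod.intCast_zmod_eq_zero_iff_dvd T 2).mpr h2
          rw [hTodd] at this
          exact one_ne_zero this
      have hpy : 0 < (p : ℤ) - y := by rcases hy with rfl | rfl <;> omega
      have hTpos : 0 < T := by
        by_contra hle
        have := mul_nonpos_of_nonpos_of_nonneg (not_lt.mp hle) hpy.le
        rw [hT] at this
        have : (0 : ℤ) < 2 ^ k := by positivity
        omega
      rw [show T = 1 by omega, one_mul] at hT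
      have hpf : p ^ f = p ^ 1 := by
        rw [pow_one]
        have : (p : ℤ) ^ f = p := by linarith
        exact_mod_cast this
      have := Nat.pow_right_injective hp.two_le hpf
      omega
    rcases h with h | h
    · exact main (-1) (Or.inr rfl) (by
        have : ((p : ℤ) ^ f + 1) = 2 ^ k := by exact_mod_cast h
        linarith)
    · exact main 1 (Or.inl rfl) (by
        have : ((p : ℤ) ^ f) = 2 ^ k + 1 := by exact_mod_cast h
        linarith)

variable {X : Type u} [Group X] [Finite X] {P : OddPar}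

theorem OddPar.q_sq (P : OddPar) : P.q ^ 2 = 4 * P.n * P.m + 1 := by
  show (P.n + P.m) ^ 2 = _
  rcases P.hadj with e | e <;> rw [e] <;> ring

theorem OddPar.two_L (P : OddPar) : 2 * P.L = P.q * (P.q + 1) * (P.q - 1) := by
  obtain ⟨r, hr⟩ : ∃ r, P.q = r + 1 := ⟨P.q - 1, by have := P.q_pos; omega⟩
  have h1 := P.q_sq
  show 2 * (2 * P.n * P.m * P.q) = _
  rw [hr] at h1 ⊢
  rw [Nat.add_sub_cancel]
  have h2 : (r + 1 + 1) * r = 4 * P.n * P.m := by linarith
  rw [mul_assoc (r + 1) (r + 1 + 1) r, h2]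
  ring

theorem XOdd.card_p_part (h : XOdd P X) : P.p ^ (Nat.card X).factorization P.p = P.q := by
  rw [h.card_eq, P.q_eq]
  congr 1
  have hp := P.hp
  have hnd : ¬ P.p ∣ 2 * P.n * P.m := by
    intro hd
    have hpq : P.p ∣ P.q := P.q_eq ▸ dvd_pow_self _ P.hf
    rcases hp.dvd_mul.mp hd with h | h
    · rcases hp.dvd_mul.mp h with h | h
      · exact P.hp2 ((Nat.prime_dvd_prime_iff_eq hp Nat.prime_two).mp h)
      · exact hp.not_dvd_one (Nat.Coprime.eq_one_of_dvd (P.cop_qn.coprime_dvd_left hpq) h ▸ dvd_rfl)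
    · exact hp.not_dvd_one (Nat.Coprime.eq_one_of_dvd (P.cop_qm.coprime_dvd_left hpq) h ▸ dvd_rfl)
  rw [show P.L = 2 * P.n * P.m * P.q from rfl, Nat.factorization_mul
    (Nat.mul_pos (Nat.mul_pos two_pos P.n_pos) P.m_pos).ne' P.q_pos.ne', Finsupp.add_apply,
    Nat.factorization_eq_zero_of_not_dvd hnd, zero_add, P.q_eq, hp.factorization_pow, Finsupp.single_eq_same]

/-- A self-centralising subgroup of order `q` with `q + 1` conjugates. -/
def HasBorel (P : OddPar) (X : Type u) [Group X] : Prop :=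
  ∃ Q : Subgroup X, IsCC Q ∧ Nat.card Q = P.q ∧ (normalizer (Q : Set X)).index = P.q + 1

theorem XOdd.borel_of_exp_le (h : XOdd P X) (hf : P.f ≤ 2) : HasBorel P X := by
  haveI : Fact P.p.Prime := ⟨P.hp⟩
  let S : Sylow P.p X := default
  have hS : Nat.card S = P.q := by rw [S.card_eq_multiplicity, h.card_p_part]
  have hcomm : ∀ x ∈ (S : Subgroup X), ∀ y ∈ (S : Subgroup X), x * y = y * x := by
    intro x hx y hy
    have hS' : Nat.card S = P.p ^ P.f := hS.trans P.q_eq
    rcases Nat.lt_or_ge P.f 2 with hlt | hge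
    · have hf1 : P.f = 1 := by have := P.hf; omega
      rw [hf1, pow_one] at hS'
      haveI := isCyclic_of_prime_card hS'
      letI := IsCyclic.commGroup (α := S)
      exact congrArg Subtype.val (mul_comm (⟨x, hx⟩ : S) ⟨y, hy⟩)
    · rw [show P.f = 2 by omega] at hS'
      exact congrArg Subtype.val (IsPGroup.commutative_of_card_eq_prime_sq hS' ⟨x, hx⟩ ⟨y, hy⟩)
  have hCC : IsCC (S : Subgroup X) := by
    intro x hx hx1
    have hle : (S : Subgroup X) ≤ centralizer ({x} : Set X) := fun y hy =>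
      mem_centralizer_singleton_iff.mpr (hcomm y hy x hx)
    have hd := card_dvd_of_le hle
    rw [hS] at hd
    refine (eq_of_le_of_card_ge hle ?_).symm
    rcases h.cases x hx1 with e | e | e | e
    · rw [e, hS]
    all_goals
      exfalso
      rw [e] at hd
    · have := Nat.le_of_dvd P.m_pos hd; have := P.n_pos; simp only [OddPar.q] at *; omega
    · have := Nat.le_of_dvd P.n_pos hd; have := P.m_pos; simp only [OddPar.q] at *; omega
    · have h2 : P.q ∣ P.n := P.cop_2q.symm.dvd_of_dvd_mul_left hd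
      have := Nat.le_of_dvd P.n_pos h2; have := P.m_pos; simp only [OddPar.q] at *; omega
  refine ⟨S, hCC, hS, ?_⟩
  have hset : cOrd X {P.q} = {x : X | x ≠ 1 ∧ ∃ c : X, c * x * c⁻¹ ∈ (S : Subgroup X)} := by
    ext x
    constructor
    · rintro ⟨hx1, hx⟩
      refine ⟨hx1, ?_⟩
      have hd : orderOf x ∣ P.p ^ P.f :=
        P.q_eq ▸ (hx : Nat.card _ = P.q) ▸ Subgroup.orderOf_dvd_natCard _ (mem_centralizer_singleton_iff.mpr rfl)
      obtain ⟨i, -, hi⟩ := (Nat.dvd_prime_pow P.hp).mp hd
      exact exists_conj_mem P.hp S.not_dvd_index hi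
    · rintro ⟨hx1, c, hc⟩
      refine ⟨hx1, ?_⟩
      rw [← card_cent_conj x c, hCC _ hc (fun e => hx1 (conj_eq_one_iff.mp e))]
      exact hS
  have h1 : (cOrd X {P.q}).ncard = (normalizer ((S : Subgroup X) : Set X)).index * (P.q - 1) := by
    rw [hset, ← Nat.card_coe_set_eq, ← hS]
    exact CfsgLib.BSW.conj_count hCC
  rw [(h.counts).1] at h1
  refine Nat.eq_of_mul_eq_mul_right (show 0 < P.q - 1 by have := P.seven_le; omega) (h1.symm.trans ?_)
  obtain ⟨r, hr⟩ : ∃ r, P.q = r + 1 := ⟨P.q - 1, by have := P.q_pos; omega⟩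
  rw [hr, Nat.add_sub_cancel]
  exact (Nat.sub_eq_of_eq_add (by ring))

theorem XOdd.borel_of_setup (h : XOdd P X) (S : CfsgLib.BSW.Setup X) : HasBorel P X := by
  haveI := Fintype.ofFinite X
  obtain ⟨Q, D, hord, hCC, -, hDc, hQD, hNQ, -⟩ := S.conclusion
  have hq : Nat.card Q = P.q := by
    have h2 : 2 * Nat.card X = P.q * (P.q + 1) * (P.q - 1) := by rw [h.card_eq, P.two_L]
    rw [h2] at hord
    have h7 := P.seven_le
    rcases Nat.lt_trichotomy (Nat.card Q) P.q with hlt | e | hgt
    · exfalso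
      have := Nat.mul_lt_mul_of_lt_of_le (Nat.mul_lt_mul_of_lt_of_le hlt (show Nat.card Q + 1 ≤ P.q + 1 by omega)
        (by omega)) (show Nat.card Q - 1 ≤ P.q - 1 by omega) (by omega)
      omega
    · exact e
    · exfalso
      have := Nat.mul_lt_mul_of_lt_of_le (Nat.mul_lt_mul_of_lt_of_le hgt (show P.q + 1 ≤ Nat.card Q + 1 by omega)
        (by omega)) (show P.q - 1 ≤ Nat.card Q - 1 by omega) (by omega)
      omega
  refine ⟨Q, hCC, hq, ?_⟩
  set N := normalizer (Q : Set X) with hN
  have hQN : Q ≤ N := le_normalizer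
  have hDN : D ≤ N := le_sup_right.trans hNQ.ge
  have hNcard : Nat.card N = Nat.card Q * Nat.card D := by
    have hcomp : IsComplement' (Q.subgroupOf N) (D.subgroupOf N) := by
      refine isComplement'_of_disjoint_and_mul_eq_univ ?_ ?_
      · rw [disjoint_iff]
        show (Q ⊓ D).subgroupOf N = ⊥
        rw [hQD, bot_subgroupOf]
      · rw [← normal_mul, ← subgroupOf_sup hQN hDN, ← hNQ]
        rw [subgroupOf_self, coe_top]
    rw [← hcomp.card_mul_card, Nat.card_congr (subgroupOfEquivOfLe hQN).toEquiv,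
      Nat.card_congr (subgroupOfEquivOfLe hDN).toEquiv]
  have h1 := N.index_mul_card
  rw [hNcard] at h1
  rw [← h1, hq] at hord
  rw [hq] at hDc
  rw [show P.q - 1 = 2 * Nat.card D by omega] at hord
  refine Nat.eq_of_mul_eq_mul_right (show 0 < 2 * (P.q * Nat.card D) from
    Nat.mul_pos two_pos (Nat.mul_pos P.q_pos Nat.card_pos)) ?_
  linarith

/-- The Borel subgroup of the central quotient. -/
theorem XOdd.hasBorel (h : XOdd P X) : HasBorel P X := by
  by_cases hr : ∃ r : ℕ, r.Prime ∧ r ≠ 2 ∧ r ∣ P.n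
  · obtain ⟨r, hr, hr2, hrn⟩ := hr
    obtain ⟨S⟩ := h.exists_setup hr hr2 hrn
    exact h.borel_of_setup S
  push Not at hr
  have hn : P.n = 2 ^ P.n.primeFactorsList.length :=
    Nat.eq_prime_pow_of_unique_prime_dvd P.n_pos.ne' (fun {d} hd hdn => by_contra fun hne => hr d hd hne hdn)
  refine h.borel_of_exp_le (prime_pow_adj P.hp P.hp2 P.hf (k := P.n.primeFactorsList.length + 1) ?_ ?_)
  · by_contra hlt
    have h0 : P.n.primeFactorsList.length = 0 := by omega
    rw [h0, pow_zero] at hn
    have := P.hn4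
    omega
  · rw [pow_succ, ← hn, ← P.q_eq]
    rcases P.hadj with e | e <;> simp only [OddPar.q] <;> omega

end CfsgLib.CsPSL
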