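import Cfsg.Agent.Lib.ClassSizesPSL2.Sizes
import Cfsg.Agent.Lib.JordanCover

/-!
The order of the central quotient of a group with the class sizes of `PSL₂(q)`.
-/

set_option autoImplicit false

namespace CfsgLib.CsPSL

open Subgroup

variable {G : Type*} [Group G]

/-- The class size. -/
noncomputable abbrev cs (g : G) : ℕ := (centralizer ({g} : Set G)).index

theorem cs_eq_one_iff {g : G} : cs g = 1 ↔ g ∈ center G := by
  rw [cs, index_eq_one, eq_top_iff', mem_center_iff]
  exact ⟨fun h x => mem_centralizer_singleton_iff.mp (h x), fun h x => mem_centralizer_singleton_iff.mpr (h x)⟩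

theorem center_le_cent (g : G) : center G ≤ centralizer ({g} : Set G) := fun x hx =>
  mem_centralizer_singleton_iff.mpr (mem_center_iff.mp hx g).symm

theorem cent_le_of_mem_zpowers {w g : G} (h : w ∈ zpowers g) :
    centralizer ({g} : Set G) ≤ centralizer ({w} : Set G) := fun x hx => by
  obtain ⟨k, rfl⟩ := mem_zpowers_iff.mp h
  have hxg : Commute x g := mem_centralizer_singleton_iff.mp hx
  exact mem_centralizer_singleton_iff.mpr (hxg.zpow_right k).eq

theorem mem_zpowers_mul_of_coprime [Finite G] {a b : G} (hc : Commute a b) (hco : (orderOf a).Coprime (orderOf b)) :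
    a ∈ zpowers (a * b) := by
  obtain ⟨k, hk⟩ := exists_pow_eq_self_of_coprime hco.symm
  refine mem_zpowers_iff.mpr ⟨((orderOf b * k : ℕ) : ℤ), ?_⟩
  rw [zpow_natCast, pow_mul, hc.mul_pow, pow_orderOf_eq_one, mul_one, hk]

theorem cent_mul_of_coprime [Finite G] {a b : G} (hc : Commute a b) (hco : (orderOf a).Coprime (orderOf b)) :
    centralizer ({a * b} : Set G) = centralizer ({a} : Set G) ⊓ centralizer ({b} : Set G) := by
  refine le_antisymm (le_inf (cent_le_of_mem_zpowers (mem_zpowers_mul_of_coprime hc hco))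
    (cent_le_of_mem_zpowers ?_)) fun x hx => ?_
  · rw [hc.eq]
    exact mem_zpowers_mul_of_coprime hc.symm hco.symm
  · have h1 : Commute x a := mem_centralizer_singleton_iff.mp hx.1
    exact mem_centralizer_singleton_iff.mpr (h1.mul_right (mem_centralizer_singleton_iff.mp hx.2)).eq

theorem mem_center_conj {g : G} (c : G) : c * g * c⁻¹ ∈ center G ↔ g ∈ center G := by
  constructor
  · intro h
    have := (Subgroup.instNormalCenter (G := G)).conj_mem _ h c⁻¹
    simpa [mul_assoc] using this
  · exact fun h => (Subgroup.instNormalCenter (G := G)).conj_mem _ h c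

theorem cs_conj (g c : G) : cs (c * g * c⁻¹) = cs g := by
  have h : centralizer ({c * g * c⁻¹} : Set G) =
      (centralizer ({g} : Set G)).map (MulAut.conj c).toMonoidHom := by
    ext x
    simp only [mem_centralizer_singleton_iff, mem_map]
    constructor
    · intro hx
      refine ⟨c⁻¹ * x * c, ?_, by simp [mul_assoc]⟩
      calc c⁻¹ * x * c * g = c⁻¹ * (x * (c * g * c⁻¹)) * c := by group
        _ = c⁻¹ * (c * g * c⁻¹ * x) * c := by rw [hx]
        _ = g * (c⁻¹ * x * c) := by group
    · rintro ⟨y, hy, rfl⟩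
      show c * y * c⁻¹ * (c * g * c⁻¹) = c * g * c⁻¹ * (c * y * c⁻¹)
      calc c * y * c⁻¹ * (c * g * c⁻¹) = c * (y * g) * c⁻¹ := by group
        _ = c * (g * y) * c⁻¹ := by rw [hy]
        _ = _ := by group
  rw [cs, h]
  exact index_map_equiv (H := centralizer ({g} : Set G)) (MulAut.conj c)

/-- A non-central element has a non-central power of prime power order. -/
theorem exists_part [Finite G] {g : G} (hg : g ∉ center G) :
    ∃ l k : ℕ, l.Prime ∧ ∃ w, w ∈ zpowers g ∧ w ∉ center G ∧ orderOf w = l ^ k := by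
  by_contra hno
  push Not at hno
  refine hg ?_
  have hdvd : orderOf g ∣ Nat.card ↥(center G ⊓ zpowers g) := by
    rw [Nat.dvd_iff_prime_pow_dvd_dvd]
    intro r k hr hk
    have hmem : g ^ (orderOf g / r ^ k) ∈ zpowers g := npow_mem_zpowers g _
    have ho : orderOf (g ^ (orderOf g / r ^ k)) = r ^ k := orderOf_pow_orderOf_div (orderOf_pos g).ne' hk
    have hz : g ^ (orderOf g / r ^ k) ∈ center G := by
      by_contra h
      exact hno r k hr _ hmem h ho
    rw [← ho]
    exact Subgroup.orderOf_dvd_natCard _ ⟨hz, hmem⟩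
  rw [← Nat.card_zpowers] at hdvd
  have he : center G ⊓ zpowers g = zpowers g :=
    eq_of_le_of_card_ge inf_le_right (Nat.le_of_dvd Nat.card_pos hdvd)
  exact (he.ge (mem_zpowers g)).1

/-- The possible class sizes. -/
structure SizeData (G : Type*) [Group G] (S : Set ℕ) : Prop where
  mem : ∀ g : G, g ∉ center G → cs g ∈ S
  exists_cs : ∀ s ∈ S, ∃ g : G, cs g = s
  ne_one : (1 : ℕ) ∉ S

theorem SizeData.of_range {S : Set ℕ} (h : Set.range (fun g : G => (centralizer ({g} : Set G)).index) = insert 1 S)
    (h1 : (1 : ℕ) ∉ S) : SizeData G S := by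
  refine ⟨fun g hg => ?_, fun s hs => ?_, h1⟩
  · rcases h.le ⟨g, rfl⟩ with he | he
    · exact absurd (cs_eq_one_iff.mp he) hg
    · exact he
  · exact h.ge (Or.inr hs)

/-- The divisors and multiples of `T` among the sizes are trivial. -/
def Iso' (S : Set ℕ) (T : ℕ) : Prop := T ∈ S ∧ ∀ s ∈ S, (T ∣ s → s = T) ∧ (s ∣ T → s = T)

/-- The divisors of `T` among the sizes are trivial. -/
def Mini (S : Set ℕ) (T : ℕ) : Prop := T ∈ S ∧ ∀ s ∈ S, s ∣ T → s = T

theorem Iso'.mini {S : Set ℕ} {T : ℕ} (h : Iso' S T) : Mini S T := ⟨h.1, fun s hs => (h.2 s hs).2⟩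

variable [Finite G] {S : Set ℕ}

theorem SizeData.not_center (hD : SizeData G S) {g : G} {T : ℕ} (hT : T ∈ S) (hg : cs g = T) : g ∉ center G :=
  fun h => hD.ne_one (by rw [← cs_eq_one_iff.mpr h, hg]; exact hT)

theorem SizeData.key (hD : SizeData G S) {T : ℕ} (hT : Iso' S T) {a b : G} (ha : cs a = T)
    (hb : b ∉ center G) (hc : Commute a b) (hco : (orderOf a).Coprime (orderOf b)) :
    centralizer ({b} : Set G) = centralizer ({a} : Set G) := by
  have hab := cent_mul_of_coprime hc hco
  have hle : centralizer ({a * b} : Set G) ≤ centralizer ({a} : Set G) := hab.le.trans inf_le_left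
  have hd : cs a ∣ cs (a * b) := index_dvd_of_le hle
  have habn : a * b ∉ center G := fun h => by
    refine hD.not_center hT.1 ha (cs_eq_one_iff.mp (Nat.dvd_one.mp ?_))
    rwa [← cs_eq_one_iff.mpr h]
  have h1 : cs (a * b) = T := (hT.2 _ (hD.mem _ habn)).1 (ha ▸ hd)
  have heq : centralizer ({a * b} : Set G) = centralizer ({a} : Set G) := by
    refine eq_of_le_of_card_ge hle (le_of_eq ?_)
    have e1 := (centralizer ({a * b} : Set G)).card_mul_index
    have e2 := (centralizer ({a} : Set G)).card_mul_index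
    rw [show (centralizer ({a * b} : Set G)).index = T from h1] at e1
    rw [show (centralizer ({a} : Set G)).index = T from ha, ← e1] at e2
    exact Nat.eq_of_mul_eq_mul_right (Nat.pos_of_ne_zero fun e0 => by
      rw [← ha] at e0; exact index_ne_zero_of_finite e0) e2
  have hle2 : centralizer ({a} : Set G) ≤ centralizer ({b} : Set G) := heq.ge.trans (hab.le.trans inf_le_right)
  have hd2 : cs b ∣ T := ha ▸ index_dvd_of_le hle2
  have h2 : cs b = T := (hT.2 _ (hD.mem _ hb)).2 hd2
  refine (eq_of_le_of_card_ge hle2 (le_of_eq ?_)).symm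
  have e1 := (centralizer ({b} : Set G)).card_mul_index
  have e2 := (centralizer ({a} : Set G)).card_mul_index
  rw [show (centralizer ({b} : Set G)).index = T from h2] at e1
  rw [show (centralizer ({a} : Set G)).index = T from ha, ← e1] at e2
  exact Nat.eq_of_mul_eq_mul_right (Nat.pos_of_ne_zero fun e0 => by
    rw [← ha] at e0; exact index_ne_zero_of_finite e0) e2.symm

/-- A minimal size is the size of an element of prime power order. -/
theorem SizeData.exists_primary (hD : SizeData G S) {T : ℕ} (hT : Mini S T) :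
    ∃ l k : ℕ, l.Prime ∧ ∃ w : G, orderOf w = l ^ k ∧ cs w = T := by
  obtain ⟨g, hg⟩ := hD.exists_cs T hT.1
  obtain ⟨l, k, hl, w, hw, hwz, ho⟩ := exists_part (hD.not_center hT.1 hg)
  exact ⟨l, k, hl, w, ho, hT.2 _ (hD.mem _ hwz) (hg ▸ index_dvd_of_le (cent_le_of_mem_zpowers hw))⟩

/-- A non-central `r`-element in a subgroup containing the centre. -/
theorem exists_rElem {C : Subgroup G} {r : ℕ} (hr : r.Prime) (hZC : center G ≤ C)
    (h : r ∣ (center G).relIndex C) : ∃ k : ℕ, ∃ v ∈ C, v ∉ center G ∧ orderOf v = r ^ k := by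
  haveI : Fact r.Prime := ⟨hr⟩
  by_contra hno
  push Not at hno
  let R : Sylow r C := default
  have hle : (R : Subgroup C) ≤ (center G).subgroupOf C := fun x hx => by
    obtain ⟨k, hk⟩ := IsPGroup.iff_orderOf.mp R.isPGroup' ⟨x, hx⟩
    rw [mem_subgroupOf]
    by_contra hz
    refine hno k x.1 x.2 hz ?_
    rw [← hk, ← Subgroup.orderOf_coe ⟨x, hx⟩]
    exact Subgroup.orderOf_coe x
  exact R.not_dvd_index (h.trans (index_dvd_of_le hle))

/-- A subgroup of index prime to `r` meets every conjugacy class of `r`-elements. -/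
theorem exists_conj_mem {C : Subgroup G} {r k : ℕ} (hr : r.Prime) (h : ¬ r ∣ C.index) {v : G}
    (hv : orderOf v = r ^ k) : ∃ c : G, c * v * c⁻¹ ∈ C := by
  haveI : Fact r.Prime := ⟨hr⟩
  let R : Sylow r C := default
  have hpg : IsPGroup r ((R : Subgroup C).map C.subtype) := R.isPGroup'.map _
  have hind : ¬ r ∣ ((R : Subgroup C).map C.subtype).index := by
    rw [index_map_subtype]
    exact fun hd => (hr.dvd_mul.mp hd).elim R.not_dvd_index h
  let P : Sylow r G := hpg.toSylow hind
  obtain ⟨Q, hQ⟩ := (IsPGroup.of_card (G := zpowers v) (p := r) (n := k) (by rw [Nat.card_zpowers, hv])).exists_le_sylow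
  obtain ⟨c, hc⟩ := MulAction.exists_smul_eq G Q P
  refine ⟨c, ?_⟩
  have hmem : c * v * c⁻¹ ∈ ((c • Q : Sylow r G) : Subgroup G) := by
    rw [Sylow.coe_subgroup_smul, mem_pointwise_smul_iff_inv_smul_mem]
    have : (MulAut.conj c)⁻¹ • (c * v * c⁻¹) = v := by
      rw [← map_inv, MulAut.smul_def, MulAut.conj_apply]
      group
    rw [this]
    exact hQ (mem_zpowers v)
  rw [hc] at hmem
  exact map_subtype_le _ (show c * v * c⁻¹ ∈ (R : Subgroup C).map C.subtype from hmem)

/-- A prime dividing the central index divides some class size. -/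
theorem exists_dvd_cs {r : ℕ} (hr : r.Prime) (h : r ∣ (center G).index) : ∃ g : G, r ∣ cs g := by
  obtain ⟨k, v, -, hvz, hv⟩ := exists_rElem (C := (⊤ : Subgroup G)) hr le_top (by rwa [relIndex_top_right])
  by_contra hno
  push Not at hno
  refine hvz ?_
  haveI : Fact r.Prime := ⟨hr⟩
  let P : Sylow r G := default
  have hcov : ∀ g : G, ∃ c : G, c * g * c⁻¹ ∈ centralizer ((P : Subgroup G) : Set G) := by
    intro g
    let R : Sylow r (centralizer ({g} : Set G)) := default
    have hpg : IsPGroup r ((R : Subgroup _).map (centralizer ({g} : Set G)).subtype) := R.isPGroup'.map _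
    have hind : ¬ r ∣ ((R : Subgroup _).map (centralizer ({g} : Set G)).subtype).index := by
      rw [index_map_subtype]
      exact fun hd => (hr.dvd_mul.mp hd).elim R.not_dvd_index (hno g)
    obtain ⟨c, hc⟩ := MulAction.exists_smul_eq G (hpg.toSylow hind) P
    refine ⟨c, mem_centralizer_iff.mpr fun x hx => ?_⟩
    have hx' : x ∈ ((c • hpg.toSylow hind : Sylow r G) : Subgroup G) := by rw [hc]; exact hx
    rw [Sylow.coe_subgroup_smul, mem_pointwise_smul_iff_inv_smul_mem, ← map_inv, MulAut.smul_def,
      MulAut.conj_apply] at hx'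
    have hy : c⁻¹ * x * c⁻¹⁻¹ ∈ centralizer ({g} : Set G) := map_subtype_le _ hx'
    have hy' := mem_centralizer_singleton_iff.mp hy
    calc x * (c * g * c⁻¹) = c * (c⁻¹ * x * c⁻¹⁻¹ * g) * c⁻¹ := by group
      _ = c * (g * (c⁻¹ * x * c⁻¹⁻¹)) * c⁻¹ := by rw [hy']
      _ = c * g * c⁻¹ * x := by group
  have htop : centralizer ((P : Subgroup G) : Set G) = ⊤ := CfsgLib.eq_top_of_conj_cover _ hcov
  obtain ⟨c, hc⟩ := exists_conj_mem (C := (P : Subgroup G)) hr P.not_dvd_index hv
  have : c * v * c⁻¹ ∈ center G := by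
    rw [mem_center_iff]
    intro g
    exact (mem_centralizer_iff.mp (htop.ge (mem_top g)) _ hc).symm
  exact (mem_center_conj c).mp this

/-- `r` divides only the factor `cs a` of the central index. -/
theorem SizeData.excess (hD : SizeData G S) {T r l i j s : ℕ} (hr : r.Prime) (hl : l.Prime) (hs : s.Prime)
    (hT : Iso' S T) (hlr : l ≠ r) {a w : G} (ha : orderOf a = l ^ i) (hca : cs a = T)
    (hw : orderOf w = s ^ j) (hrw : ¬ r ∣ cs w) (hwT : cs w ≠ T) (hwz : w ∉ center G) :
    (center G).index.factorization r = T.factorization r := by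
  have hnd : ¬ r ∣ (center G).relIndex (centralizer ({a} : Set G)) := by
    intro hd
    obtain ⟨k, v, hv, hvz, hvo⟩ := exists_rElem hr (center_le_cent a) hd
    have hav : Commute a v := (mem_centralizer_singleton_iff.mp hv : Commute v a).symm
    have hco : (orderOf a).Coprime (orderOf v) := by
      rw [ha, hvo]
      exact ((Nat.coprime_primes hl hr).mpr hlr).pow _ _
    have hCv := hD.key hT hca hvz hav hco
    have hcv : cs v = T := by rw [← hca, cs, hCv]
    obtain ⟨c, hc⟩ := exists_conj_mem hr hrw hvo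
    set w' := c⁻¹ * w * c with hw'
    have hw'2 : w' = c⁻¹ * w * c⁻¹⁻¹ := by rw [inv_inv]
    have hcw' : cs w' = cs w := by rw [hw'2]; exact cs_conj w c⁻¹
    have hw'z : w' ∉ center G := by rw [hw'2]; exact fun h => hwz ((mem_center_conj c⁻¹).mp h)
    have ho : orderOf w' = s ^ j := by
      rw [hw'2, ← hw]
      exact orderOf_injective (MulAut.conj c⁻¹).toMonoidHom (MulAut.conj c⁻¹).injective w
    have hc' := mem_centralizer_singleton_iff.mp hc
    have hvw : Commute v w' := by
      show v * (c⁻¹ * w * c) = c⁻¹ * w * c * v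
      calc v * (c⁻¹ * w * c) = c⁻¹ * (c * v * c⁻¹ * w) * c := by group
        _ = c⁻¹ * (w * (c * v * c⁻¹)) * c := by rw [hc']
        _ = _ := by group
    apply hwT
    by_cases hsr : s = r
    · have hwa : Commute a w' := by
        have : w' ∈ centralizer ({a} : Set G) := hCv.le (mem_centralizer_singleton_iff.mpr hvw.symm)
        exact (mem_centralizer_singleton_iff.mp this : Commute w' a).symm
      have hco2 : (orderOf a).Coprime (orderOf w') := by
        rw [ha, ho, hsr]; exact ((Nat.coprime_primes hl hr).mpr hlr).pow _ _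
      rw [← hcw', ← hca, cs, hD.key hT hca hw'z hwa hco2]
    · have hco2 : (orderOf v).Coprime (orderOf w') := by
        rw [hvo, ho]; exact ((Nat.coprime_primes hr hs).mpr (Ne.symm hsr)).pow _ _
      rw [← hcw', ← hcv, cs, hD.key hT hcv hw'z hvw hco2]
  have hmul : (center G).relIndex (centralizer ({a} : Set G)) * cs a = (center G).index :=
    relIndex_mul_index (center_le_cent a)
  have hne1 : (center G).relIndex (centralizer ({a} : Set G)) ≠ 0 := fun e => by
    rw [e, zero_mul] at hmul; exact index_ne_zero_of_finite hmul.symm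
  rw [← hmul, hca, Nat.factorization_mul hne1 (hca ▸ index_ne_zero_of_finite), Finsupp.add_apply,
    Nat.factorization_eq_zero_of_not_dvd hnd, zero_add]

/-- An `r`-element of class size prime to `r`. -/
theorem SizeData.exists_prime_elem (hD : SizeData G S) {T r : ℕ} (hT : Iso' S T) (hr : r.Prime)
    (hrT : ¬ r ∣ T) (hrZ : r ∣ (center G).index) :
    ∃ k : ℕ, ∃ v : G, orderOf v = r ^ k ∧ cs v = T := by
  obtain ⟨l, i, hl, a, ha, hca⟩ := hD.exists_primary hT.mini
  by_cases hlr : l = r
  · exact ⟨i, a, hlr ▸ ha, hca⟩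
  have hd : r ∣ (center G).relIndex (centralizer ({a} : Set G)) := by
    have hmul : (center G).relIndex (centralizer ({a} : Set G)) * cs a = (center G).index :=
      relIndex_mul_index (center_le_cent a)
    rw [← hmul, hca] at hrZ
    exact (hr.dvd_mul.mp hrZ).resolve_right hrT
  obtain ⟨k, v, hv, hvz, hvo⟩ := exists_rElem hr (center_le_cent a) hd
  refine ⟨k, v, hvo, ?_⟩
  rw [← hca, cs, hD.key hT hca hvz (mem_centralizer_singleton_iff.mp hv : Commute v a).symm
    (by rw [ha, hvo]; exact ((Nat.coprime_primes hl hr).mpr hlr).pow _ _)]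

theorem SizeData.cs_dvd (_hD : SizeData G S) (g : G) : cs g ∣ (center G).index :=
  index_dvd_of_le (center_le_cent g)

end CfsgLib.CsPSL
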