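import Cfsg.Agent.Lib.ClassSizesPSL2.Quot
import Cfsg.Agent.Lib.CharTheory.Irr

/-!
Counting elements by centraliser order.
-/

set_option autoImplicit false

namespace CfsgLib.CsPSL

open Subgroup

variable {X : Type*} [Group X] [Finite X]

/-- The non-identity elements with centraliser order in a given set. -/
abbrev cOrd (X : Type*) [Group X] (s : Set ℕ) : Set X :=
  {x | x ≠ 1 ∧ Nat.card (centralizer ({x} : Set X)) ∈ s}

theorem card_cent_conj (x c : X) :
    Nat.card (centralizer ({c * x * c⁻¹} : Set X)) = Nat.card (centralizer ({x} : Set X)) := by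
  refine Nat.card_congr ((MulAut.conj c).toEquiv.subtypeEquiv fun y => ?_).symm
  show y ∈ centralizer ({x} : Set X) ↔ c * y * c⁻¹ ∈ centralizer ({c * x * c⁻¹} : Set X)
  rw [mem_centralizer_singleton_iff, mem_centralizer_singleton_iff,
    show c * y * c⁻¹ * (c * x * c⁻¹) = c * (y * x) * c⁻¹ by group,
    show c * x * c⁻¹ * (c * y * c⁻¹) = c * (x * y) * c⁻¹ by group, mul_left_inj, mul_right_inj]

theorem class_ncard (x : X) : {y : X | IsConj x y}.ncard = (centralizer ({x} : Set X)).index := by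
  rw [← Nat.card_coe_set_eq]
  have h := CfsgLib.CharTheory.card_isConj_mul_card_centralizer x
  rw [← (centralizer ({x} : Set X)).index_mul_card] at h
  exact Nat.eq_of_mul_eq_mul_right Nat.card_pos h

theorem dvd_ncard_invariant {d : ℕ} (T : Set X) (hinv : ∀ x ∈ T, ∀ y, IsConj x y → y ∈ T)
    (hd : ∀ x ∈ T, d ∣ (centralizer ({x} : Set X)).index) : d ∣ T.ncard := by
  induction hn : T.ncard using Nat.strong_induction_on generalizing T with
  | h n ih =>
    subst hn
    rcases T.eq_empty_or_nonempty with rfl | ⟨t, ht⟩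
    · simp
    have hOT : {y : X | IsConj t y} ⊆ T := fun y hy => hinv t ht y hy
    have hlt : (T \ {y : X | IsConj t y}).ncard < T.ncard := Set.ncard_lt_ncard
      ⟨Set.diff_subset, fun hsub => (hsub ht).2 (IsConj.refl t)⟩ (Set.toFinite T)
    have h1 := ih _ hlt (T \ {y : X | IsConj t y}) (fun x hx y hy => ⟨hinv x hx.1 y hy, fun h => hx.2 (h.trans hy.symm)⟩)
      (fun x hx => hd x hx.1) rfl
    rw [← Set.ncard_diff_add_ncard_of_subset hOT (Set.toFinite T), class_ncard]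
    exact dvd_add h1 (hd t ht)

theorem cOrd_invariant (s : Set ℕ) : ∀ x ∈ cOrd X s, ∀ y, IsConj x y → y ∈ cOrd X s := by
  intro x hx y hy
  obtain ⟨c, rfl⟩ := isConj_iff.mp hy
  exact ⟨fun h => hx.1 (conj_eq_one_iff.mp h), by rw [card_cent_conj]; exact hx.2⟩

theorem exists_mul_ncard {d : ℕ} {s : Set ℕ} (hd : ∀ k ∈ s, ∀ x : X, Nat.card (centralizer ({x} : Set X)) = k →
    d ∣ (centralizer ({x} : Set X)).index) (hne : (cOrd X s).Nonempty) :
    ∃ a, 1 ≤ a ∧ (cOrd X s).ncard = d * a := by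
  obtain ⟨a, ha⟩ := dvd_ncard_invariant (cOrd X s) (cOrd_invariant s) (fun x hx => hd _ hx.2 x rfl)
  refine ⟨a, ?_, ha⟩
  have := (Set.ncard_pos (Set.toFinite _)).mpr hne
  rw [ha] at this
  exact Nat.pos_of_ne_zero fun e => by simp [e] at this

theorem card_eq_three {A B C : Set ℕ} (hcov : ∀ x : X, x ≠ 1 →
    Nat.card (centralizer ({x} : Set X)) ∈ A ∨ Nat.card (centralizer ({x} : Set X)) ∈ B ∨
      Nat.card (centralizer ({x} : Set X)) ∈ C)
    (hAB : Disjoint A B) (hAC : Disjoint A C) (hBC : Disjoint B C) :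
    Nat.card X = 1 + (cOrd X A).ncard + (cOrd X B).ncard + (cOrd X C).ncard := by
  have hd : ∀ {A B : Set ℕ}, Disjoint A B → Disjoint (cOrd X A) (cOrd X B) := fun h =>
    Set.disjoint_left.mpr fun x ha hb => Set.disjoint_left.mp h ha.2 hb.2
  have hu : (Set.univ : Set X) = (({1} ∪ cOrd X A) ∪ cOrd X B) ∪ cOrd X C := by
    symm
    rw [Set.eq_univ_iff_forall]
    intro x
    by_cases hx : x = 1
    · exact Or.inl (Or.inl (Or.inl hx))
    rcases hcov x hx with h | h | h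
    · exact Or.inl (Or.inl (Or.inr ⟨hx, h⟩))
    · exact Or.inl (Or.inr ⟨hx, h⟩)
    · exact Or.inr ⟨hx, h⟩
  have h1 : ∀ s : Set ℕ, Disjoint ({1} : Set X) (cOrd X s) := fun s =>
    Set.disjoint_left.mpr fun x hx hs => hs.1 hx
  rw [← Set.ncard_univ, hu, Set.ncard_union_eq ((Set.disjoint_union_left.mpr
      ⟨Set.disjoint_union_left.mpr ⟨h1 _, hd hAC⟩, hd hBC⟩)) (Set.toFinite _) (Set.toFinite _),
    Set.ncard_union_eq (Set.disjoint_union_left.mpr ⟨h1 _, hd hAB⟩) (Set.toFinite _) (Set.toFinite _),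
    Set.ncard_union_eq (h1 _) (Set.toFinite _) (Set.toFinite _), Set.ncard_singleton]

variable {P : OddPar}

theorem index_of_card {x : X} {a b : ℕ} (hcard : Nat.card X = b * a)
    (h : Nat.card (centralizer ({x} : Set X)) = a) : (centralizer ({x} : Set X)).index = b := by
  have h1 := (centralizer ({x} : Set X)).index_mul_card
  rw [h, hcard] at h1
  exact Nat.eq_of_mul_eq_mul_right (h ▸ Nat.card_pos) h1

theorem q_zmod (P : OddPar) : (P.q : ℤ) = P.n + P.m := by show ((P.n + P.m : ℕ) : ℤ) = _; push_cast; ring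

/-- The numbers of elements of the three kinds. -/
theorem XOdd.counts (h : XOdd P X) :
    (cOrd X {P.q}).ncard = P.q ^ 2 - 1 ∧ (cOrd X ({P.n, 2 * P.n} : Set ℕ)).ncard = (P.n - 1) * (P.q * P.m) := by
  have hn4 := P.hn4
  have hm3 := P.hm3
  have hq7 := P.seven_le
  obtain ⟨a, ha1, ha⟩ := exists_mul_ncard (X := X) (d := 2 * P.n * P.m) (s := {P.q})
    (fun k hk x hx => dvd_of_eq (index_of_card (by rw [h.card_eq]) (hx.trans hk)).symm)
    (by obtain ⟨x, hx, hc⟩ := h.exists_q; exact ⟨x, hx, hc⟩)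
  obtain ⟨b, hb1, hb⟩ := exists_mul_ncard (X := X) (d := 2 * P.n * P.q) (s := {P.m})
    (fun k hk x hx => dvd_of_eq (index_of_card (by rw [h.card_eq]; ring) (hx.trans hk)).symm)
    (by obtain ⟨x, hx, hc⟩ := h.exists_m; exact ⟨x, hx, hc⟩)
  obtain ⟨e, he1, he⟩ := exists_mul_ncard (X := X) (d := P.q * P.m) (s := ({P.n, 2 * P.n} : Set ℕ))
    (fun k hk x hx => by
      rcases hk with rfl | rfl
      · exact ⟨2, index_of_card (by rw [h.card_eq]; ring) hx⟩
      · exact dvd_of_eq (index_of_card (by rw [h.card_eq]; ring) hx).symm)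
    (by obtain ⟨x, hx, hc⟩ := h.exists_n; exact ⟨x, hx, Or.inr hc⟩)
  have hsum := card_eq_three (X := X) (A := {P.q}) (B := {P.m}) (C := ({P.n, 2 * P.n} : Set ℕ))
    (fun x hx => by rcases h.cases x hx with e | e | e | e <;> simp [e])
    (Set.disjoint_singleton.mpr (by show P.n + P.m ≠ P.m; omega))
    (Set.disjoint_singleton_left.mpr (by
      have := P.q_odd
      have := P.hn
      simp only [Set.mem_insert_iff, Set.mem_singleton_iff]
      omega))
    (Set.disjoint_singleton_left.mpr (by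
      have := P.hm
      have := P.hn
      simp only [Set.mem_insert_iff, Set.mem_singleton_iff]
      omega))
  rw [h.card_eq, ha, hb, he] at hsum
  rw [ha, he]
  have hLz : (2 * P.n * P.m * P.q : ℤ) = 1 + 2 * P.n * P.m * a + 2 * P.n * P.q * b + P.q * P.m * e := by
    exact_mod_cast hsum
  have hqz := q_zmod P
  have hsq : (P.n : ℤ) = P.m + 1 ∨ (P.m : ℤ) = P.n + 1 := by rcases P.hadj with e | e <;> omega
  have hnm1 : ((P.n : ℤ) - P.m) ^ 2 = 1 := by rcases hsq with e | e <;> rw [e] <;> ring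
  have hqsq : (P.q : ℤ) ^ 2 = 4 * P.n * P.m + 1 := by rw [hqz]; linear_combination hnm1
  -- congruences
  have dq : (P.q : ℤ) ∣ (a : ℤ) - 2 :=
    ⟨a * P.q - 4 * P.n * P.m + 4 * P.n * b + 2 * P.m * e, by linear_combination 2 * hLz - (a : ℤ) * hqsq⟩
  have dm : (P.m : ℤ) ∣ 2 * (b : ℤ) + 1 := by
    refine ⟨2 * P.n * P.q - 2 * P.n * a - P.q * e - 2 * b * (P.n + (if P.n = P.m + 1 then (P.m : ℤ) + 2 else P.m - 2)), ?_⟩
    rcases P.hadj with e' | e'
    · rw [if_pos e']
      have : (P.n : ℤ) = P.m + 1 := by omega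
      rw [hqz, this] at hLz ⊢
      linear_combination -hLz
    · rw [if_neg (by omega)]
      have : (P.n : ℤ) = P.m - 1 := by omega
      rw [hqz, this] at hLz ⊢
      linear_combination -hLz
  have dn : (P.n : ℤ) ∣ (e : ℤ) + 1 := by
    refine ⟨2 * P.m * P.q - 2 * P.m * a - 2 * P.q * b - e * (P.m + (if P.n = P.m + 1 then (P.n : ℤ) - 2 else P.n + 2)), ?_⟩
    rcases P.hadj with e' | e'
    · rw [if_pos e']
      have : (P.m : ℤ) = P.n - 1 := by omega
      rw [hqz, this] at hLz ⊢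
      linear_combination -hLz
    · rw [if_neg (by omega)]
      have : (P.m : ℤ) = P.n + 1 := by omega
      rw [hqz, this] at hLz ⊢
      linear_combination -hLz
  have ha2 : (2 : ℤ) ≤ a := by
    by_contra hlt
    have h2 : (P.q : ℤ) ∣ 2 - (a : ℤ) := by rw [← neg_sub]; exact dq.neg_right
    have := Int.le_of_dvd (show (0 : ℤ) < 2 - a by omega) h2
    omega
  have hb2 : (P.m : ℤ) ≤ 2 * b + 1 := Int.le_of_dvd (by omega) dm
  have he2 : (P.n : ℤ) ≤ e + 1 := Int.le_of_dvd (by omega) dn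
  have hA : (0 : ℤ) < 2 * P.n * P.m := by positivity
  have hB : (0 : ℤ) < P.n * P.q := mul_pos (by omega) (by omega)
  have hC : (0 : ℤ) < P.q * P.m := mul_pos (by omega) (by omega)
  have hid : 2 * P.n * P.m * ((a : ℤ) - 2) + P.n * P.q * (2 * b + 1 - P.m) + P.q * P.m * (e + 1 - P.n) = 0 := by
    rw [hqz] at hLz ⊢
    linear_combination -hLz + hnm1
  have t1 := mul_nonneg hA.le (show (0 : ℤ) ≤ a - 2 by omega)
  have t2 := mul_nonneg hB.le (show (0 : ℤ) ≤ 2 * b + 1 - P.m by omega)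
  have t3 := mul_nonneg hC.le (show (0 : ℤ) ≤ e + 1 - P.n by omega)
  have ea : (a : ℤ) - 2 = 0 := (mul_eq_zero.mp (show 2 * P.n * P.m * ((a : ℤ) - 2) = 0 by linarith)).resolve_left hA.ne'
  have ee : (e : ℤ) + 1 - P.n = 0 :=
    (mul_eq_zero.mp (show (P.q : ℤ) * P.m * ((e : ℤ) + 1 - P.n) = 0 by linarith)).resolve_left hC.ne'
  constructor
  · have hq2 : P.q ^ 2 = 4 * P.n * P.m + 1 := by exact_mod_cast hqsq
    have : a = 2 := by omega
    rw [this, hq2]
    show 2 * P.n * P.m * 2 = 4 * P.n * P.m + 1 - 1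
    rw [Nat.add_sub_cancel]
    ring
  · have : e = P.n - 1 := by omega
    rw [this, mul_comm]

/-- Centraliser orders in the quotient, `q` even. -/
structure XEven (q : ℕ) (X : Type*) [Group X] : Prop where
  card_eq : Nat.card X = q * (q + 1) * (q - 1)
  cases : ∀ x : X, x ≠ 1 → Nat.card (centralizer ({x} : Set X)) = q ∨
    Nat.card (centralizer ({x} : Set X)) = q + 1 ∨ Nat.card (centralizer ({x} : Set X)) = q - 1
  exists_q : ∃ x : X, x ≠ 1 ∧ Nat.card (centralizer ({x} : Set X)) = q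
  exists_p : ∃ x : X, x ≠ 1 ∧ Nat.card (centralizer ({x} : Set X)) = q + 1
  exists_m : ∃ x : X, x ≠ 1 ∧ Nat.card (centralizer ({x} : Set X)) = q - 1

/-- A single class of elements with centraliser order `q`. -/
theorem XEven.count {q : ℕ} (h4 : 4 ≤ q) (h : XEven q X) : (cOrd X {q}).ncard = (q + 1) * (q - 1) := by
  obtain ⟨a, ha1, ha⟩ := exists_mul_ncard (X := X) (d := (q + 1) * (q - 1)) (s := {q})
    (fun k hk x hx => dvd_of_eq (index_of_card (by rw [h.card_eq]; ring) (hx.trans hk)).symm)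
    (by obtain ⟨x, hx, hc⟩ := h.exists_q; exact ⟨x, hx, hc⟩)
  obtain ⟨b, hb1, hb⟩ := exists_mul_ncard (X := X) (d := q * (q - 1)) (s := {q + 1})
    (fun k hk x hx => dvd_of_eq (index_of_card (by rw [h.card_eq]; ring) (hx.trans hk)).symm)
    (by obtain ⟨x, hx, hc⟩ := h.exists_p; exact ⟨x, hx, hc⟩)
  obtain ⟨c, hc1, hc⟩ := exists_mul_ncard (X := X) (d := q * (q + 1)) (s := {q - 1})
    (fun k hk x hx => dvd_of_eq (index_of_card (by rw [h.card_eq]) (hx.trans hk)).symm)
    (by obtain ⟨x, hx, hc⟩ := h.exists_m; exact ⟨x, hx, hc⟩)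
  have hsum := card_eq_three (X := X) (A := {q}) (B := {q + 1}) (C := {q - 1})
    (fun x hx => by rcases h.cases x hx with e | e | e <;> simp [e])
    (Set.disjoint_singleton.mpr (by omega)) (Set.disjoint_singleton.mpr (by omega))
    (Set.disjoint_singleton.mpr (by omega))
  rw [h.card_eq, ha, hb, hc] at hsum
  rw [ha]
  obtain ⟨r, rfl⟩ : ∃ r, q = r + 1 := ⟨q - 1, by omega⟩
  simp only [Nat.add_sub_cancel] at hsum ⊢
  have hz : (((r : ℤ) + 1) * (r + 1 + 1) * r) =
      1 + (r + 1 + 1) * r * a + (r + 1) * r * b + (r + 1) * (r + 1 + 1) * c := by exact_mod_cast hsum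
  have dp : ((r : ℤ) + 2) ∣ 2 * (b : ℤ) + 1 :=
    ⟨(r + 1) * r - r * a - (r + 1) * c - b * ((r : ℤ) - 1), by linear_combination -hz⟩
  have dm : (r : ℤ) ∣ 2 * (c : ℤ) + 1 :=
    ⟨(r + 1) * (r + 2) - (r + 2) * a - (r + 1) * b - c * ((r : ℤ) + 3), by linear_combination -hz⟩
  have hb2 : (r : ℤ) + 2 ≤ 2 * b + 1 := Int.le_of_dvd (by omega) dp
  have hc2 : (r : ℤ) ≤ 2 * c + 1 := Int.le_of_dvd (by omega) dm
  have hid : 2 * (r : ℤ) * (r + 2) * ((a : ℤ) - 1) + (r + 1) * r * (2 * b + 1 - (r + 2)) +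
      (r + 1) * (r + 2) * (2 * c + 1 - r) = 0 := by
    linear_combination -2 * hz
  have hA : (0 : ℤ) < 2 * r * (r + 2) := by
    have : (0 : ℤ) < r := by omega
    positivity
  have t1 := mul_nonneg hA.le (show (0 : ℤ) ≤ a - 1 by omega)
  have t2 := mul_nonneg (show (0 : ℤ) ≤ ((r : ℤ) + 1) * r by positivity) (show (0 : ℤ) ≤ 2 * b + 1 - (r + 2) by omega)
  have t3 := mul_nonneg (show (0 : ℤ) ≤ ((r : ℤ) + 1) * (r + 2) by positivity) (show (0 : ℤ) ≤ 2 * c + 1 - r by omega)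
  have ea : (a : ℤ) - 1 = 0 := (mul_eq_zero.mp (show 2 * (r : ℤ) * (r + 2) * ((a : ℤ) - 1) = 0 by linarith)).resolve_left hA.ne'
  rw [show a = 1 by omega, mul_one]

end CfsgLib.CsPSL
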