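import Cfsg.Agent.Lib.ClassSizesPSL2.Card

/-!
The central index of a group with the class sizes of `PSL₂(q)`.
-/

set_option autoImplicit false

namespace CfsgLib.CsPSL

open Subgroup

namespace OddPar

variable (P : OddPar)

theorem q_eq : P.q = P.p ^ P.f := P.hq

theorem cop_nm : Nat.Coprime P.n P.m := by
  rcases P.hadj with e | e
  · rw [e]; exact (Nat.coprime_self_add_left).mpr (Nat.coprime_one_left _)
  · rw [e]; exact (Nat.coprime_self_add_right).mpr (Nat.coprime_one_right _)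

theorem cop_qn : Nat.Coprime P.q P.n := by
  show Nat.Coprime (P.n + P.m) P.n
  exact Nat.coprime_self_add_left.mpr P.cop_nm.symm

theorem cop_qm : Nat.Coprime P.q P.m := by
  show Nat.Coprime (P.n + P.m) P.m
  exact Nat.coprime_add_self_left.mpr P.cop_nm

theorem q_odd : ¬ 2 ∣ P.q := by
  have := P.hn
  have := P.hm
  show ¬ 2 ∣ P.n + P.m
  omega

theorem cop_2q : Nat.Coprime 2 P.q := (Nat.prime_two.coprime_iff_not_dvd).mpr P.q_odd

theorem cop_2m : Nat.Coprime 2 P.m := (Nat.prime_two.coprime_iff_not_dvd).mpr P.hm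

theorem n_pos : 0 < P.n := by have := P.hn4; omega

theorem m_pos : 0 < P.m := by have := P.hm3; omega

theorem q_pos : 0 < P.q := by have := P.hn4; show 0 < P.n + P.m; omega

theorem seven_le : 7 ≤ P.q := by have := P.hn4; have := P.hm3; show 7 ≤ P.n + P.m; omega

theorem L_pos : 0 < P.L :=
  Nat.mul_pos (Nat.mul_pos (Nat.mul_pos two_pos P.n_pos) P.m_pos) P.q_pos

theorem one_not_mem : (1 : ℕ) ∉ P.sizes := by
  have := P.n_pos
  have := P.m_pos
  have := P.q_pos
  rintro (h | h | h | h)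
  · have : 2 ∣ 1 := ⟨P.n * P.m, by rw [← mul_assoc]; exact h⟩
    omega
  · have := Nat.eq_one_of_mul_eq_one_left h.symm
    have := P.hm3
    omega
  · have : 2 ∣ 1 := ⟨P.q * P.m, by rw [← mul_assoc]; exact h⟩
    omega
  · have : 2 ∣ 1 := ⟨P.q * P.n, by rw [← mul_assoc]; exact h⟩
    omega

theorem sizes_dvd {s : ℕ} (h : s ∈ P.sizes) : s ∣ P.L := by
  rcases h with rfl | rfl | rfl | rfl
  · exact ⟨P.q, by simp only [OddPar.L]⟩
  · exact ⟨2 * P.n, by simp only [OddPar.L]; ring⟩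
  · exact ⟨P.n, by simp only [OddPar.L]; ring⟩
  · exact ⟨P.m, by simp only [OddPar.L]; ring⟩

theorem not_q_dvd_H : ¬ P.q ∣ 2 * P.n * P.m := by
  intro h
  have h0 : P.q ∣ P.n * 1 := by
    rw [mul_one]
    exact P.cop_2q.symm.dvd_of_dvd_mul_left (P.cop_qm.dvd_of_dvd_mul_right h)
  have h1 := P.cop_qn.dvd_of_dvd_mul_left h0
  have := Nat.le_of_dvd one_pos h1
  have := P.seven_le
  omega

theorem not_n_dvd {a : ℕ} (ha : a = P.m ∨ a = P.q) : ¬ P.n ∣ a := by
  intro h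
  have hc : Nat.Coprime P.n a := by
    rcases ha with rfl | rfl
    · exact P.cop_nm
    · exact P.cop_qn.symm
  have := Nat.le_of_dvd one_pos (hc.dvd_of_dvd_mul_left (by rwa [mul_one] : P.n ∣ a * 1))
  have := P.hn4
  omega

theorem not_m_dvd_M : ¬ P.m ∣ 2 * P.q * P.n := by
  intro h
  have h1 : P.m ∣ 2 * P.q := P.cop_nm.symm.dvd_of_dvd_mul_right h
  have h2 : P.m ∣ 2 := P.cop_qm.symm.dvd_of_dvd_mul_right h1
  have := Nat.le_of_dvd two_pos h2
  have := P.hm3
  omega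

theorem iso_H : Iso' P.sizes (2 * P.n * P.m) := by
  refine ⟨Or.inl rfl, fun s hs => ?_⟩
  rcases hs with rfl | rfl | rfl | rfl
  · exact ⟨fun _ => rfl, fun _ => rfl⟩
  · refine ⟨fun h => absurd ?_ P.q_odd, fun h => absurd (dvd_trans (dvd_mul_right _ _) h) P.not_q_dvd_H⟩
    exact P.cop_2m.dvd_of_dvd_mul_right (dvd_trans ⟨P.n * P.m, by ring⟩ h)
  · refine ⟨fun h => absurd ?_ (P.not_n_dvd (Or.inr rfl)),
      fun h => absurd (dvd_trans ⟨2 * P.m, by ring⟩ h) P.not_q_dvd_H⟩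
    exact Nat.dvd_of_mul_dvd_mul_left two_pos (Nat.dvd_of_mul_dvd_mul_right P.m_pos h)
  · exact ⟨fun h => absurd (dvd_trans (dvd_mul_left _ _) h) P.not_m_dvd_M,
      fun h => absurd (dvd_trans ⟨2 * P.n, by ring⟩ h) P.not_q_dvd_H⟩

theorem iso_M : Iso' P.sizes (2 * P.q * P.n) := by
  refine ⟨Or.inr (Or.inr (Or.inr rfl)), fun s hs => ?_⟩
  rcases hs with rfl | rfl | rfl | rfl
  · exact ⟨fun h => absurd (dvd_trans ⟨2 * P.n, by ring⟩ h) P.not_q_dvd_H,
      fun h => absurd (dvd_trans (dvd_mul_left _ _) h) P.not_m_dvd_M⟩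
  · refine ⟨fun h => absurd ?_ P.hm, fun h => absurd (dvd_trans (dvd_mul_left _ _) h) P.not_m_dvd_M⟩
    exact P.cop_2q.dvd_of_dvd_mul_left (dvd_trans ⟨P.q * P.n, by ring⟩ h)
  · refine ⟨fun h => absurd ?_ (P.not_n_dvd (Or.inl rfl)),
      fun h => absurd (dvd_trans (dvd_mul_left _ _) h) P.not_m_dvd_M⟩
    exact Nat.dvd_of_mul_dvd_mul_left (Nat.mul_pos two_pos P.q_pos) h
  · exact ⟨fun _ => rfl, fun _ => rfl⟩

theorem mini_I : Mini P.sizes (P.q * P.m) := by
  refine ⟨Or.inr (Or.inl rfl), fun s hs h => ?_⟩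
  have hodd : ¬ 2 ∣ P.q * P.m := fun h2 => (Nat.prime_two.dvd_mul.mp h2).elim P.q_odd P.hm
  rcases hs with rfl | rfl | rfl | rfl
  · exact absurd (dvd_trans ⟨P.n * P.m, by ring⟩ h) hodd
  · rfl
  · exact absurd (dvd_trans ⟨P.q * P.m, by ring⟩ h) hodd
  · exact absurd (dvd_trans ⟨P.q * P.n, by ring⟩ h) hodd

end OddPar

variable {G : Type*} [Group G] [Finite G]

theorem fact_right {a b r : ℕ} (ha : a ≠ 0) (hb : b ≠ 0) (h : ¬ r ∣ b) :
    (a * b).factorization r = a.factorization r := by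
  rw [Nat.factorization_mul ha hb, Finsupp.add_apply, Nat.factorization_eq_zero_of_not_dvd h, add_zero]

/-- `[G : Z] = |PSL₂(q)|`, `q` odd. -/
theorem index_center_odd (P : OddPar) (hD : SizeData G P.sizes) : (center G).index = P.L := by
  have hp := P.hp
  have hH := P.iso_H
  have hM := P.iso_M
  have hn0 := P.n_pos
  have hm0 := P.m_pos
  have hq0 := P.q_pos
  have hHd : 2 * P.n * P.m ∣ (center G).index := by
    obtain ⟨g, hg⟩ := hD.exists_cs _ hH.1
    exact hg ▸ hD.cs_dvd g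
  have hMd : 2 * P.q * P.n ∣ (center G).index := by
    obtain ⟨g, hg⟩ := hD.exists_cs _ hM.1
    exact hg ▸ hD.cs_dvd g
  have hLd : P.L ∣ (center G).index := by
    have h := Nat.lcm_dvd hHd hMd
    rw [show 2 * P.q * P.n = 2 * P.n * P.q by ring, Nat.lcm_mul_left, P.cop_qm.symm.lcm_eq_mul] at h
    exact (dvd_of_eq (by simp only [OddPar.L]; ring)).trans h
  have hpq : P.p ∣ P.q := P.q_eq ▸ dvd_pow_self _ P.hf
  have hpL : P.p ∣ P.L := dvd_mul_of_dvd_right hpq _
  have hpH : ¬ P.p ∣ 2 * P.n * P.m := by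
    intro h
    rcases hp.dvd_mul.mp h with h | h
    · rcases hp.dvd_mul.mp h with h | h
      · exact P.hp2 ((Nat.prime_dvd_prime_iff_eq hp Nat.prime_two).mp h)
      · exact hp.not_dvd_one (Nat.Coprime.eq_one_of_dvd (P.cop_qn.coprime_dvd_left hpq) h ▸ dvd_rfl)
    · exact hp.not_dvd_one (Nat.Coprime.eq_one_of_dvd (P.cop_qm.coprime_dvd_left hpq) h ▸ dvd_rfl)
  obtain ⟨i, a, ha, hca⟩ := hD.exists_prime_elem hH hp hpH (hpL.trans hLd)
  have hMm : ∀ r, r.Prime → r ∣ P.m → ¬ r ∣ 2 * P.q * P.n := by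
    intro r hr hrm h
    rcases hr.dvd_mul.mp h with h | h
    · rcases hr.dvd_mul.mp h with h | h
      · exact P.hm (((Nat.prime_dvd_prime_iff_eq hr Nat.prime_two).mp h) ▸ hrm)
      · exact hr.not_dvd_one (Nat.Coprime.eq_one_of_dvd (P.cop_qm.coprime_dvd_left h) hrm ▸ dvd_rfl)
    · exact hr.not_dvd_one (Nat.Coprime.eq_one_of_dvd (P.cop_nm.coprime_dvd_left h) hrm ▸ dvd_rfl)
  refine Nat.eq_of_factorization_eq index_ne_zero_of_finite P.L_pos.ne' fun r => ?_
  by_cases hr : r.Prime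
  swap
  · rw [Nat.factorization_eq_zero_of_not_prime _ hr, Nat.factorization_eq_zero_of_not_prime _ hr]
  by_cases hrL : r ∣ P.L
  swap
  · rw [Nat.factorization_eq_zero_of_not_dvd hrL, Nat.factorization_eq_zero_of_not_dvd]
    intro hd
    obtain ⟨g, hg⟩ := exists_dvd_cs hr hd
    by_cases hgz : g ∈ center G
    · rw [cs_eq_one_iff.mpr hgz] at hg
      exact hr.not_dvd_one hg
    · exact hrL (hg.trans (P.sizes_dvd (hD.mem g hgz)))
  rcases hr.dvd_mul.mp hrL with h | h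
  swap
  · -- the characteristic
    have hrp : r = P.p := (Nat.prime_dvd_prime_iff_eq hr hp).mp (hr.dvd_of_dvd_pow (P.q_eq ▸ h))
    subst hrp
    obtain ⟨l, hl, hlm⟩ := Nat.exists_prime_and_dvd (show P.m ≠ 1 by have := P.hm3; omega)
    have hlp : l ≠ P.p := fun e => hl.not_dvd_one
      (Nat.Coprime.eq_one_of_dvd (P.cop_qm.coprime_dvd_left (e ▸ hpq)) hlm ▸ dvd_rfl)
    obtain ⟨j, b, hb, hcb⟩ := hD.exists_prime_elem hM hl (hMm l hl hlm)
      ((show l ∣ P.L from dvd_mul_of_dvd_left (dvd_mul_of_dvd_right hlm _) _).trans hLd)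
    rw [hD.excess hp hl hp hM hlp hb hcb ha (by rw [hca]; exact hpH)
      (by rw [hca]; exact fun e => P.not_m_dvd_M (e ▸ dvd_mul_left _ _))
      (hD.not_center hH.1 hca)]
    rw [show P.L = 2 * P.q * P.n * P.m by simp only [OddPar.L]; ring,
      fact_right (Nat.mul_pos (Nat.mul_pos two_pos hq0) hn0).ne' hm0.ne']
    intro hd
    exact hp.not_dvd_one (Nat.Coprime.eq_one_of_dvd (P.cop_qm.coprime_dvd_left hpq) hd ▸ dvd_rfl)
  have hrp : P.p ≠ r := fun e => hpH (e ▸ h)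
  have hLH : P.L.factorization r = (2 * P.n * P.m).factorization r := by
    refine fact_right (Nat.mul_pos (Nat.mul_pos two_pos hn0) hm0).ne' hq0.ne' fun hd => hrp ?_
    exact ((Nat.prime_dvd_prime_iff_eq hr hp).mp (hr.dvd_of_dvd_pow (P.q_eq ▸ hd))).symm
  rw [hLH]
  by_cases hrm : r ∣ P.m
  · obtain ⟨j, b, hb, hcb⟩ := hD.exists_prime_elem hM hr (hMm r hr hrm) ((hrL).trans hLd)
    exact hD.excess hr hp hr hH hrp ha hca hb (by rw [hcb]; exact hMm r hr hrm)
      (by rw [hcb]; exact fun e => P.not_m_dvd_M (e.symm ▸ dvd_mul_left _ _))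
      (hD.not_center hM.1 hcb)
  · obtain ⟨s, j, hs, w, hw, hcw⟩ := hD.exists_primary P.mini_I
    refine hD.excess hr hp hs hH hrp ha hca hw ?_ ?_ (hD.not_center P.mini_I.1 hcw)
    · rw [hcw]
      intro hd
      refine (hr.dvd_mul.mp hd).elim (fun hd => hrp ?_) hrm
      exact ((Nat.prime_dvd_prime_iff_eq hr hp).mp (hr.dvd_of_dvd_pow (P.q_eq ▸ hd))).symm
    · rw [hcw]
      exact fun e => P.not_q_dvd_H (e ▸ dvd_mul_right _ _)

/-- The class sizes for three pairwise coprime numbers. -/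
abbrev triSizes (x y z : ℕ) : Set ℕ := {x * y, x * z, y * z}

theorem tri_iso {x y z : ℕ} (hz1 : 1 < z) (hx0 : 0 < x) (hxy : x.Coprime y) (hxz : x.Coprime z) (hyz : y.Coprime z)
    (hx1 : 1 < x) (hy1 : 1 < y) : Iso' (triSizes x y z) (x * y) := by
  refine ⟨Or.inl rfl, fun s hs => ?_⟩
  rcases hs with rfl | rfl | rfl
  · exact ⟨fun _ => rfl, fun _ => rfl⟩
  · refine ⟨fun h => absurd ((Nat.dvd_of_mul_dvd_mul_left hx0 h)) ?_, fun h => absurd (Nat.dvd_of_mul_dvd_mul_left hx0 h) ?_⟩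
    · exact fun h => absurd (hyz.eq_one_of_dvd h) (by omega)
    · exact fun h => absurd (hyz.symm.eq_one_of_dvd h) (by omega)
  · refine ⟨fun h => absurd (dvd_trans (dvd_mul_right _ _) h) ?_, fun h => absurd (dvd_trans (dvd_mul_left _ _) h) ?_⟩
    · exact fun h => absurd (Nat.Coprime.eq_one_of_dvd (hxy.mul_right hxz) h) (by omega)
    · exact fun h => absurd (Nat.Coprime.eq_one_of_dvd (hxz.symm.mul_right hyz.symm) h) (by omega)

theorem tri_fact {x y z : ℕ} (hx1 : 1 < x) (hy1 : 1 < y) (hz1 : 1 < z) (hxy : x.Coprime y) (hxz : x.Coprime z)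
    (hyz : y.Coprime z) (hD : SizeData G (triSizes x y z)) (hL : x * y * z ∣ (center G).index) {r : ℕ}
    (hr : r.Prime) (hrz : r ∣ z) : (center G).index.factorization r = (x * y * z).factorization r := by
  have hswap : triSizes x y z = triSizes y z x := by
    ext s
    simp only [triSizes, Set.mem_insert_iff, Set.mem_singleton_iff, mul_comm x]
    tauto
  have hYZ : Iso' (triSizes x y z) (y * z) :=
    hswap ▸ tri_iso (z := x) hx1 (by omega) hyz hxy.symm hxz.symm hy1 hz1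
  have hXY : Iso' (triSizes x y z) (x * y) := tri_iso hz1 (by omega) hxy hxz hyz hx1 hy1
  obtain ⟨l, hl, hlx⟩ := Nat.exists_prime_and_dvd (show x ≠ 1 by omega)
  have hrxy : ¬ r ∣ x * y := fun h => (hr.dvd_mul.mp h).elim
    (fun h => hr.not_dvd_one (Nat.Coprime.eq_one_of_dvd (hxz.coprime_dvd_left h) hrz ▸ dvd_rfl))
    fun h => hr.not_dvd_one (Nat.Coprime.eq_one_of_dvd (hyz.coprime_dvd_left h) hrz ▸ dvd_rfl)
  have hlyz : ¬ l ∣ y * z := fun h => hl.not_dvd_one
    (Nat.Coprime.eq_one_of_dvd ((hxy.mul_right hxz).coprime_dvd_left hlx) h ▸ dvd_rfl)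
  have hlr : l ≠ r := fun e => hrxy (dvd_mul_of_dvd_left (e ▸ hlx) _)
  obtain ⟨i, a, ha, hca⟩ := hD.exists_prime_elem hYZ hl hlyz
    ((dvd_mul_of_dvd_left (dvd_mul_of_dvd_left hlx _) _).trans hL)
  obtain ⟨j, w, hw, hcw⟩ := hD.exists_prime_elem hXY hr hrxy ((dvd_mul_of_dvd_right hrz _).trans hL)
  rw [hD.excess hr hl hr hYZ hlr ha hca hw (by rw [hcw]; exact hrxy)
    (by rw [hcw]; exact fun e => hrxy (e.symm ▸ dvd_mul_of_dvd_right hrz _)) (hD.not_center hXY.1 hcw)]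
  rw [show x * y * z = y * z * x by ring, fact_right (Nat.mul_pos (by omega) (by omega)).ne' (by omega)]
  exact fun h => hrxy (dvd_mul_of_dvd_left h _)

/-- `[G : Z]` for three pairwise coprime factors. -/
theorem index_center_tri {x y z : ℕ} (hx1 : 1 < x) (hy1 : 1 < y) (hz1 : 1 < z) (hxy : x.Coprime y)
    (hxz : x.Coprime z) (hyz : y.Coprime z) (hD : SizeData G (triSizes x y z)) :
    (center G).index = x * y * z := by
  have hr1 : triSizes x y z = triSizes y z x := by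
    ext s
    simp only [triSizes, Set.mem_insert_iff, Set.mem_singleton_iff, mul_comm x]
    tauto
  have hr2 : triSizes x y z = triSizes z x y := by
    ext s
    simp only [triSizes, Set.mem_insert_iff, Set.mem_singleton_iff, mul_comm z]
    tauto
  have hd : ∀ s ∈ triSizes x y z, s ∣ (center G).index := fun s hs => by
    obtain ⟨g, hg⟩ := hD.exists_cs s hs
    exact hg ▸ hD.cs_dvd g
  have hL : x * y * z ∣ (center G).index :=
    (hxz.mul_left hyz).mul_dvd_of_dvd_of_dvd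
      (hd _ (Or.inl rfl)) ((dvd_mul_left z x).trans (hd _ (Or.inr (Or.inl rfl))))
  refine Nat.eq_of_factorization_eq index_ne_zero_of_finite
    (Nat.mul_pos (Nat.mul_pos (by omega) (by omega)) (by omega)).ne' fun r => ?_
  by_cases hr : r.Prime
  swap
  · rw [Nat.factorization_eq_zero_of_not_prime _ hr, Nat.factorization_eq_zero_of_not_prime _ hr]
  by_cases hrL : r ∣ x * y * z
  swap
  · rw [Nat.factorization_eq_zero_of_not_dvd hrL, Nat.factorization_eq_zero_of_not_dvd]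
    intro hdd
    obtain ⟨g, hg⟩ := exists_dvd_cs hr hdd
    by_cases hgz : g ∈ center G
    · rw [cs_eq_one_iff.mpr hgz] at hg
      exact hr.not_dvd_one hg
    · rcases hD.mem g hgz with h | h | h <;> rw [h] at hg <;> refine hrL (hg.trans ?_)
      · exact ⟨z, rfl⟩
      · exact ⟨y, by ring⟩
      · exact ⟨x, by ring⟩
  rcases hr.dvd_mul.mp hrL with h | h
  · rcases hr.dvd_mul.mp h with h | h
    · rw [tri_fact hy1 hz1 hx1 hyz hxy.symm hxz.symm (hr1 ▸ hD)
        ((dvd_of_eq (by ring)).trans hL) hr h]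
      congr 2
      ring
    · rw [tri_fact hz1 hx1 hy1 hxz.symm hyz.symm hxy (hr2 ▸ hD)
        ((dvd_of_eq (by ring)).trans hL) hr h]
      congr 2
      ring
  · exact tri_fact hx1 hy1 hz1 hxy hxz hyz hD hL hr h

end CfsgLib.CsPSL
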