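import Cfsg.Agent.Lib.ClassSizesPSL2.Recog
import Mathlib.FieldTheory.Finite.GaloisField

/-!
The central quotient is `PSL₂(q)`.
-/

set_option autoImplicit false

namespace CfsgLib.CsPSL

variable {F : Type*} [Field F] [Fintype F] {G : Type*} [Group G] [Finite G]

local notation "PSL" => Matrix.ProjectiveSpecialLinearGroup (Fin 2) F
local notation "q" => Fintype.card F

theorem quot_odd (hodd : ¬ 2 ∣ q) (h7 : 7 ≤ q)
    (h : Set.range (fun g : G => (Subgroup.centralizer ({g} : Set G)).index) =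
      Set.range (fun g : PSL => (Subgroup.centralizer ({g} : Set PSL)).index)) :
    ∃ P : OddPar, SizeData G P.sizes ∧ P.q = q ∧ Nat.card PSL = P.L ∧
      Nonempty (G ⧸ Subgroup.center G ≃* PSL) := by
  classical
  obtain ⟨p, hp⟩ := CharP.exists F
  haveI : Fact p.Prime := ⟨CharP.char_is_prime F p⟩
  obtain ⟨P, hPp, hPq, hPL⟩ := exists_par (F := F) p hodd h7
  have hD : SizeData G P.sizes := SizeData.of_range (h.trans (odd_range p hodd P hPp hPq hPL)) P.one_not_mem
  refine ⟨P, hD, hPq, hPL, ?_⟩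
  obtain ⟨K, iK, iF, hK, ⟨e⟩⟩ := (xOdd_quot hD).recognise (xOdd_quot hD).hasBorel
  exact ⟨e.trans (CfsgLib.SLShort.pslCongr 2 (FiniteField.ringEquivOfCardEq (hK.trans hPq)))⟩

theorem even_data (he : 2 ∣ q) (h2 : 2 < q)
    (h : Set.range (fun g : G => (Subgroup.centralizer ({g} : Set G)).index) =
      Set.range (fun g : PSL => (Subgroup.centralizer ({g} : Set PSL)).index)) :
    4 ≤ q ∧ CharP F 2 ∧ SizeData G (triSizes q (q + 1) (q - 1)) ∧
      Nat.Coprime q (q + 1) ∧ Nat.Coprime q (q - 1) ∧ (q + 1).Coprime (q - 1) := by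
  classical
  obtain ⟨p, hp⟩ := CharP.exists F
  haveI : Fact p.Prime := ⟨CharP.char_is_prime F p⟩
  obtain ⟨f, hpp, hf⟩ := FiniteField.card F p
  have hp2 : p = 2 := ((Nat.prime_dvd_prime_iff_eq Nat.prime_two hpp).mp
    (Nat.prime_two.dvd_of_dvd_pow (hf ▸ he))).symm
  subst hp2
  have h4 : 4 ≤ q := by omega
  have hs : ({1, (q + 1) * (q - 1), q * (q - 1), q * (q + 1)} : Set ℕ) = insert 1 (triSizes q (q + 1) (q - 1)) := by
    ext s
    simp only [triSizes, Set.mem_insert_iff, Set.mem_singleton_iff]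
    tauto
  have hc1 : Nat.Coprime q (q + 1) := Nat.coprime_self_add_right.mpr (Nat.coprime_one_right _)
  obtain ⟨r, hr⟩ : ∃ r, q = r + 1 := ⟨q - 1, by omega⟩
  have hc2 : Nat.Coprime q (q - 1) := by
    rw [hr, Nat.add_sub_cancel]
    exact Nat.coprime_self_add_left.mpr (Nat.coprime_one_left _)
  have hc3 : (q + 1).Coprime (q - 1) := by
    rw [hr, Nat.add_sub_cancel, show r + 1 + 1 = r + 2 from rfl]
    exact Nat.coprime_self_add_left.mpr ((Nat.prime_two.coprime_iff_not_dvd).mpr (by omega))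
  refine ⟨h4, hp, SizeData.of_range (h.trans ((even_range (F := F) 2 h4 he).trans hs)) ?_, hc1, hc2, hc3⟩
  rintro (e | e | e)
  · have := Nat.eq_one_of_mul_eq_one_left e.symm; omega
  · have := Nat.eq_one_of_mul_eq_one_left e.symm; omega
  · have := Nat.eq_one_of_mul_eq_one_left e.symm; omega

theorem xEven_quot (h4 : 4 ≤ q) (hD : SizeData G (triSizes q (q + 1) (q - 1))) (hc1 : Nat.Coprime q (q + 1))
    (hc2 : Nat.Coprime q (q - 1)) (hc3 : (q + 1).Coprime (q - 1)) : XEven q (G ⧸ Subgroup.center G) := by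
  have hx : 1 < q := by omega
  have hy : 1 < q + 1 := by omega
  have hz : 1 < q - 1 := by omega
  have key : ∀ g : G, g ∉ Subgroup.center G → _ := fun g hg => tri_quot hx hy hz hc1 hc2 hc3 hD hg
  have hmul : ∀ g : G, cz g * cs g = q * (q + 1) * (q - 1) := fun g => by
    rw [cz_mul, index_center_tri hx hy hz hc1 hc2 hc3 hD]
  have hex : ∀ s ∈ triSizes q (q + 1) (q - 1), ∀ c, c * s = q * (q + 1) * (q - 1) →
      ∃ x : G ⧸ Subgroup.center G, x ≠ 1 ∧
        Nat.card (Subgroup.centralizer ({x} : Set (G ⧸ Subgroup.center G))) = c := by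
    intro s hs c hc
    obtain ⟨g, hg⟩ := hD.exists_cs s hs
    have hgz := hD.not_center hs hg
    refine ⟨g, quot_ne_one hgz, ?_⟩
    have hm := hmul g
    rw [hg, ← hc] at hm
    have hs0 : 0 < s := Nat.pos_of_ne_zero fun e => by
      rw [e, mul_zero] at hc
      exact (Nat.mul_pos (Nat.mul_pos (by omega) (by omega)) (by omega)).ne' hc.symm
    have hcz : cz g = c := Nat.eq_of_mul_eq_mul_right hs0 hm
    rcases key g hgz with ⟨-, e1, e2⟩ | ⟨-, e1, e2⟩ | ⟨-, e1, e2⟩ <;> rw [e2, ← e1, hcz]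
  refine ⟨index_center_tri hx hy hz hc1 hc2 hc3 hD, fun x hx1 => ?_,
    hex ((q + 1) * (q - 1)) (Or.inr (Or.inr rfl)) _ (by ring),
    hex (q * (q - 1)) (Or.inr (Or.inl rfl)) _ (by ring),
    hex (q * (q + 1)) (Or.inl rfl) _ (by ring)⟩
  obtain ⟨g, rfl⟩ := QuotientGroup.mk_surjective x
  rcases key g (fun hg => hx1 ((QuotientGroup.eq_one_iff g).mpr hg)) with ⟨-, -, e⟩ | ⟨-, -, e⟩ | ⟨-, -, e⟩
  · exact Or.inl e
  · exact Or.inr (Or.inl e)
  · exact Or.inr (Or.inr e)

theorem quot_even (he : 2 ∣ q) (h2 : 2 < q)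
    (h : Set.range (fun g : G => (Subgroup.centralizer ({g} : Set G)).index) =
      Set.range (fun g : PSL => (Subgroup.centralizer ({g} : Set PSL)).index)) :
    Nonempty (G ⧸ Subgroup.center G ≃* PSL) := by
  classical
  obtain ⟨h4, hF, hD, hc1, hc2, hc3⟩ := even_data he h2 h
  haveI := hF
  haveI : Fact (Nat.Prime 2) := ⟨Nat.prime_two⟩
  obtain ⟨f, -, hf⟩ := FiniteField.card F 2
  obtain ⟨K, iK, iF, hK2, hK, ⟨e⟩⟩ := (xEven_quot h4 hD hc1 hc2 hc3).recognise hf h4
  exact ⟨(e.trans (CfsgLib.SLShort.slCongr 2 (FiniteField.ringEquivOfCardEq hK))).trans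
    (CfsgLib.PrimeGraphExt.pslEquiv (F := F)).symm⟩

end CfsgLib.CsPSL
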