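import Cfsg.Agent.Lib.ClassSizesPSL2.Count
import Cfsg.Agent.Lib.BSW.Small

/-!
The centraliser of an involution when `n` has an odd prime divisor.
-/

set_option autoImplicit false

namespace CfsgLib.CsPSL

open Subgroup
open CfsgLib.BSW (IsCC)

universe u

variable {X : Type u} [Group X] [Finite X] {P : OddPar}

/-- An element splits into commuting parts of `2`-power and odd order. -/
theorem two_split (g : X) :
    ∃ s o : X, g = s * o ∧ s ∈ zpowers g ∧ o ∈ zpowers g ∧ (∃ k, orderOf s = 2 ^ k) ∧ Odd (orderOf o) := by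
  obtain ⟨k, j, hj, hkj⟩ := Nat.exists_eq_pow_mul_and_not_dvd (orderOf_pos g).ne' 2 (by norm_num)
  have hco : Nat.Coprime (2 ^ k) j := Nat.Coprime.pow_left k ((Nat.prime_two.coprime_iff_not_dvd).mpr hj)
  obtain ⟨u, v, huv⟩ := Int.isCoprime_iff_gcd_eq_one.mpr (show Int.gcd ((2 ^ k : ℕ) : ℤ) (j : ℤ) = 1 from hco)
  refine ⟨g ^ (v * j), g ^ (u * (2 ^ k : ℕ)), by rw [← zpow_add, add_comm, huv, zpow_one],
    zpow_mem (mem_zpowers g) _, zpow_mem (mem_zpowers g) _, ?_, ?_⟩
  · have h1 : (g ^ (v * j)) ^ (2 ^ k) = 1 := by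
      rw [← zpow_natCast, ← zpow_mul, show v * (j : ℤ) * ((2 ^ k : ℕ) : ℤ) = ((2 ^ k * j : ℕ) : ℤ) * v by push_cast; ring,
        zpow_mul, zpow_natCast, ← hkj, pow_orderOf_eq_one, one_zpow]
    obtain ⟨i, -, hi⟩ := (Nat.dvd_prime_pow Nat.prime_two).mp (orderOf_dvd_of_pow_eq_one h1)
    exact ⟨i, hi⟩
  · have h1 : (g ^ (u * (2 ^ k : ℕ))) ^ j = 1 := by
      rw [← zpow_natCast, ← zpow_mul, show u * ((2 ^ k : ℕ) : ℤ) * (j : ℤ) = ((2 ^ k * j : ℕ) : ℤ) * u by push_cast; ring,
        zpow_mul, zpow_natCast, ← hkj, pow_orderOf_eq_one, one_zpow]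
    exact (Nat.not_even_iff_odd.mp fun he => hj (even_iff_two_dvd.mp he)).of_dvd_nat (orderOf_dvd_of_pow_eq_one h1)

theorem cm {x y : X} (h : x ∈ centralizer ({y} : Set X)) : Commute x y := mem_centralizer_singleton_iff.mp h

theorem coprime_two_odd {a b k : ℕ} (ha : a = 2 ^ k) (hb : Odd b) : a.Coprime b := by
  rw [ha]
  exact Nat.Coprime.pow_left k ((Nat.prime_two.coprime_iff_not_dvd).mpr hb.not_two_dvd_nat)

/-- A subgroup of index at most two contains the squares. -/
theorem sq_mem_of_card {E D : Subgroup X} (hle : E ≤ D) (hc : Nat.card D = Nat.card E ∨ Nat.card D = 2 * Nat.card E)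
    {g : X} (hg : g ∈ D) : g * g ∈ E := by
  rcases hc with hc | hc
  · rw [eq_of_le_of_card_ge hle hc.le]
    exact mul_mem hg hg
  · have h2 : (E.subgroupOf D).index = 2 := by
      have h1 := (E.subgroupOf D).index_mul_card
      rw [Nat.card_congr (subgroupOfEquivOfLe hle).toEquiv, hc] at h1
      exact Nat.eq_of_mul_eq_mul_right Nat.card_pos h1
    exact mem_subgroupOf.mp (mul_self_mem_of_index_two h2 ⟨g, hg⟩)

theorem mul_mem_of_card {E D : Subgroup X} (hle : E ≤ D) (hc : Nat.card D = Nat.card E ∨ Nat.card D = 2 * Nat.card E)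
    {g h : X} (hg : g ∈ D) (hh : h ∈ D) (hgE : g ∉ E) (hhE : h ∉ E) : g⁻¹ * h ∈ E := by
  rcases hc with hc | hc
  · exact absurd ((eq_of_le_of_card_ge hle hc.le).symm ▸ hg : g ∈ E) hgE
  · have h2 : (E.subgroupOf D).index = 2 := by
      have h1 := (E.subgroupOf D).index_mul_card
      rw [Nat.card_congr (subgroupOfEquivOfLe hle).toEquiv, hc] at h1
      exact Nat.eq_of_mul_eq_mul_right Nat.card_pos h1
    have := (mul_mem_iff_of_index_two h2 (a := ⟨g⁻¹, inv_mem hg⟩) (b := ⟨h, hh⟩)).mpr
      (iff_of_false (fun e => hgE (by simpa using inv_mem (mem_subgroupOf.mp e)))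
        (fun e => hhE (mem_subgroupOf.mp e)))
    exact mem_subgroupOf.mp this

theorem odd_mem_of_card {E D : Subgroup X} (hle : E ≤ D) (hc : Nat.card D = Nat.card E ∨ Nat.card D = 2 * Nat.card E)
    {g : X} (hg : g ∈ D) (ho : Odd (orderOf g)) : g ∈ E := by
  obtain ⟨j, hj⟩ := ho
  have : g = (g * g) ^ (j + 1) := by
    rw [← pow_two, ← pow_mul, show 2 * (j + 1) = orderOf g + 1 by omega, pow_succ, pow_orderOf_eq_one, one_mul]
  rw [this]
  exact pow_mem (sq_mem_of_card hle hc hg) _

/-- A conjugation invariant piece of a subgroup meeting its conjugates trivially. -/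
theorem union_count (N : Subgroup X) (T : Set X) (hinv : ∀ g ∈ N, ∀ x ∈ T, g * x * g⁻¹ ∈ T)
    (hTI : ∀ g : X, ∀ x ∈ T, g * x * g⁻¹ ∈ T → g ∈ N) :
    {y : X | ∃ g : X, g * y * g⁻¹ ∈ T}.ncard = N.index * T.ncard := by
  rw [← Nat.card_coe_set_eq, ← Nat.card_coe_set_eq, Subgroup.index, ← Nat.card_prod]
  refine (Nat.card_congr (Equiv.ofBijective (fun p : (X ⧸ N) × T =>
    (⟨p.1.out * (p.2 : X) * p.1.out⁻¹, p.1.out⁻¹, by
      show p.1.out⁻¹ * (p.1.out * (p.2 : X) * p.1.out⁻¹) * p.1.out⁻¹⁻¹ ∈ T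
      simp [mul_assoc]⟩ : {y : X | ∃ g : X, g * y * g⁻¹ ∈ T})) ⟨?_, ?_⟩)).symm
  · rintro ⟨c, x, hx⟩ ⟨d, y, hy⟩ e
    have e' : c.out * x * c.out⁻¹ = d.out * y * d.out⁻¹ := congrArg Subtype.val e
    have hn : d.out⁻¹ * c.out ∈ N := hTI _ x hx (by
      rw [show d.out⁻¹ * c.out * x * (d.out⁻¹ * c.out)⁻¹ = d.out⁻¹ * (c.out * x * c.out⁻¹) * d.out by group, e',
        show d.out⁻¹ * (d.out * y * d.out⁻¹) * d.out = y by group]
      exact hy)
    have hcd : c = d := by
      rw [← QuotientGroup.out_eq' c, ← QuotientGroup.out_eq' d]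
      exact (QuotientGroup.eq.mpr hn).symm
    subst hcd
    have : x = y := mul_left_cancel (mul_right_cancel e')
    subst this
    rfl
  · rintro ⟨y, g, hg⟩
    set c : X ⧸ N := QuotientGroup.mk g⁻¹
    have hn : c.out⁻¹ * g⁻¹ ∈ N := QuotientGroup.eq.mp (QuotientGroup.out_eq' c)
    have hm := hinv _ hn _ hg
    refine ⟨⟨c, _, hm⟩, Subtype.ext ?_⟩
    show c.out * (c.out⁻¹ * g⁻¹ * (g * y * g⁻¹) * (c.out⁻¹ * g⁻¹)⁻¹) * c.out⁻¹ = y
    group

theorem conj_cent_comm {g x y : X} (h : Commute x y) : Commute (g * x * g⁻¹) (g * y * g⁻¹) :=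
  h.map (MulAut.conj g).toMonoidHom

/-- An involution with centraliser of order `2n`. -/
structure IsMax (P : OddPar) (t : X) : Prop where
  ord : orderOf t = 2
  card : Nat.card (centralizer ({t} : Set X)) = 2 * P.n

theorem IsMax.ne_one {t : X} (ht : IsMax P t) : t ≠ 1 := fun e => by simpa [e] using ht.ord

theorem IsMax.mem {t : X} (_ht : IsMax P t) : t ∈ centralizer ({t} : Set X) := mem_centralizer_singleton_iff.mpr rfl

namespace XOdd

variable (h : XOdd P X)
include h

theorem dvd_card_two_n {x : X} (hx : x ≠ 1) (hd : 2 * P.n ∣ Nat.card (centralizer ({x} : Set X))) :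
    Nat.card (centralizer ({x} : Set X)) = 2 * P.n := by
  have := P.n_pos
  rcases h.cases x hx with e | e | e | e
  · exact absurd ((dvd_mul_right 2 P.n).trans (e ▸ hd)) P.q_odd
  · exact absurd ((dvd_mul_right 2 P.n).trans (e ▸ hd)) P.hm
  · have := Nat.le_of_dvd (by omega) (e ▸ hd); omega
  · exact e

theorem two_dvd_card {x : X} (hx : x ≠ 1) (hd : 2 ∣ Nat.card (centralizer ({x} : Set X))) :
    Nat.card (centralizer ({x} : Set X)) = P.n ∨ Nat.card (centralizer ({x} : Set X)) = 2 * P.n := by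
  rcases h.cases x hx with e | e | e | e
  · exact absurd (e ▸ hd) P.q_odd
  · exact absurd (e ▸ hd) P.hm
  · exact Or.inl e
  · exact Or.inr e

theorem comm_invol {x t : X} (hx : x ≠ 1) (ht : orderOf t = 2) (hc : Commute t x) :
    Nat.card (centralizer ({x} : Set X)) = P.n ∨ Nat.card (centralizer ({x} : Set X)) = 2 * P.n :=
  h.two_dvd_card hx (ht ▸ Subgroup.orderOf_dvd_natCard _ (mem_centralizer_singleton_iff.mpr hc.eq))

theorem card_of_odd_index {x : X} (hx : x ≠ 1) {H : Subgroup X} (hle : H ≤ centralizer ({x} : Set X))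
    (hH : ¬ 2 ∣ H.index) : Nat.card (centralizer ({x} : Set X)) = 2 * P.n := by
  have hodd : ¬ 2 ∣ (centralizer ({x} : Set X)).index := fun hd => hH (hd.trans (index_dvd_of_le hle))
  have hcard := h.card_eq
  rcases h.cases x hx with e | e | e | e
  · exact absurd (index_of_card (X := X) (by rw [hcard]) e ▸ ⟨P.n * P.m, by ring⟩) hodd
  · exact absurd (index_of_card (X := X) (b := 2 * P.n * P.q) (by rw [hcard]; ring) e ▸ ⟨P.n * P.q, by ring⟩) hodd
  · exact absurd (index_of_card (X := X) (b := 2 * P.q * P.m) (by rw [hcard]; ring) e ▸ ⟨P.q * P.m, by ring⟩) hodd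
  · exact e

theorem two_dvd_X : 2 ∣ Nat.card X := ⟨P.n * P.m * P.q, by rw [h.card_eq]; simp only [OddPar.L]; ring⟩

/-- A subgroup of odd index holds an involution with a large centraliser. -/
theorem exists_isMax {H : Subgroup X} (hH : ¬ 2 ∣ H.index) :
    ∃ t : X, IsMax P t ∧ ∃ S : Subgroup X, S ≤ H ∧ S ≤ centralizer ({t} : Set X) ∧ t ∈ S ∧ ¬ 2 ∣ S.index := by
  haveI : Fact (Nat.Prime 2) := ⟨Nat.prime_two⟩
  let R : Sylow 2 H := default
  have hpg : IsPGroup 2 ((R : Subgroup H).map H.subtype) := R.isPGroup'.map _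
  have hind : ¬ 2 ∣ ((R : Subgroup H).map H.subtype).index := by
    rw [index_map_subtype]
    exact fun hd => (Nat.prime_two.dvd_mul.mp hd).elim R.not_dvd_index hH
  set S := (R : Subgroup H).map H.subtype
  have hS : 2 ∣ Nat.card S := by
    have h1 := S.card_mul_index ▸ h.two_dvd_X
    exact (Nat.prime_two.dvd_mul.mp h1).resolve_right hind
  haveI : Nontrivial S := Finite.one_lt_card_iff_nontrivial.mp (Nat.lt_of_lt_of_le one_lt_two (Nat.le_of_dvd Nat.card_pos hS))
  haveI := hpg.center_nontrivial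
  have h2 : 2 ∣ Nat.card (center S) := by
    obtain ⟨j, hj⟩ := (hpg.to_subgroup (center S)).exists_card_eq
    rcases j with _ | j
    · rw [pow_zero] at hj
      exact absurd hj (ne_of_gt Finite.one_lt_card)
    · rw [hj]; exact dvd_pow_self 2 (by omega)
  obtain ⟨z, hz⟩ := exists_prime_orderOf_dvd_card' (G := center S) 2 h2
  have hzo : orderOf ((z : S) : X) = 2 := by rw [Subgroup.orderOf_coe, Subgroup.orderOf_coe, hz]
  have hle : S ≤ centralizer ({((z : S) : X)} : Set X) := fun x hx =>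
    mem_centralizer_singleton_iff.mpr (congrArg Subtype.val (mem_center_iff.mp z.2 ⟨x, hx⟩))
  exact ⟨_, ⟨hzo, h.card_of_odd_index (fun e => by rw [e, orderOf_one] at hzo; omega) hle hind⟩, S,
    map_subtype_le _, hle, (z : S).2, hind⟩

variable {t : X} (ht : IsMax P t)
include ht

/-- The centraliser of a product with an odd element of the centraliser of `t`. -/
theorem cent_mul_cases {v : X} (hv : v ∈ centralizer ({t} : Set X)) (ho : Odd (orderOf v)) :
    centralizer ({v * t} : Set X) = centralizer ({v} : Set X) ⊓ centralizer ({t} : Set X) ∧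
    (Nat.card (centralizer ({v * t} : Set X)) = P.n ∨ Nat.card (centralizer ({v * t} : Set X)) = 2 * P.n) := by
  have hc : Commute v t := mem_centralizer_singleton_iff.mp hv
  have hco : (orderOf v).Coprime (orderOf t) := (coprime_two_odd (k := 1) ht.ord ho).symm
  refine ⟨cent_mul_of_coprime hc hco, h.comm_invol (fun e => ?_) ht.ord (hc.symm.mul_right (Commute.refl t))⟩
  have h1 := mem_zpowers_mul_of_coprime hc.symm hco.symm
  rw [← hc.eq, e, zpowers_one_eq_bot, mem_bot] at h1
  exact ht.ne_one h1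

theorem odd_comm {v w : X} (hv : v ∈ centralizer ({t} : Set X)) (ho : Odd (orderOf v))
    (hw : w ∈ centralizer ({t} : Set X)) (how : Odd (orderOf w)) : Commute w v := by
  obtain ⟨e, hc⟩ := h.cent_mul_cases ht hv ho
  have hle : centralizer ({v * t} : Set X) ≤ centralizer ({t} : Set X) := e.le.trans inf_le_right
  have hmem := odd_mem_of_card hle (by rw [ht.card]; rcases hc with c | c <;> rw [c] <;> omega) hw how
  exact mem_centralizer_singleton_iff.mp (e.le hmem).1

theorem odd_mul {v w : X} (hv : v ∈ centralizer ({t} : Set X)) (ho : Odd (orderOf v))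
    (hw : w ∈ centralizer ({t} : Set X)) (how : Odd (orderOf w)) : Odd (orderOf (v * w)) :=
  (ho.mul how).of_dvd_nat ((h.odd_comm ht hw how hv ho).orderOf_mul_dvd_mul_orderOf)

theorem nmul_two {E : Subgroup X} (hE : Nat.card E = P.n ∨ Nat.card E = 2 * P.n) :
    Nat.card (centralizer ({t} : Set X)) = Nat.card E ∨ Nat.card (centralizer ({t} : Set X)) = 2 * Nat.card E := by
  rw [ht.card]
  rcases hE with c | c <;> rw [c] <;> omega

/-- No odd element is central in the centraliser of `t`. -/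
theorem no_central {a : X} (ha : a ∈ centralizer ({t} : Set X)) (hao : Odd (orderOf a)) (ha1 : a ≠ 1)
    (hcen : ∀ g ∈ centralizer ({t} : Set X), Commute g a) : False := by
  set D := centralizer ({t} : Set X) with hD
  have hn4 := P.hn4
  have hcnt := (h.counts).2
  have hDle : D ≤ centralizer ({a} : Set X) := fun g hg => mem_centralizer_singleton_iff.mpr (hcen g hg).eq
  have hCa : centralizer ({a} : Set X) = D := (eq_of_le_of_card_ge hDle (by
    rw [h.dvd_card_two_n ha1 (ht.card ▸ card_dvd_of_le hDle), ht.card])).symm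
  -- centralisers of `2`-elements inside `D` have index at most two
  have hidx : ∀ x ∈ D, ∃ E : Subgroup X, E ≤ D ∧
      (Nat.card D = Nat.card E ∨ Nat.card D = 2 * Nat.card E) ∧ ∀ g ∈ D, (g ∈ E ↔ Commute g x) := by
    intro x hx
    obtain ⟨s, o, hso, hs, ho, ⟨k, hk⟩, hoo⟩ := two_split x
    have hsD : s ∈ D := zpowers_le.mpr hx hs
    have hoD : o ∈ D := zpowers_le.mpr hx ho
    have hsa : Commute s a := hcen s hsD
    have hco : (orderOf s).Coprime (orderOf a) := coprime_two_odd hk hao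
    have e := cent_mul_of_coprime hsa hco
    rw [hCa] at e
    have hne : s * a ≠ 1 := fun e1 => by
      have h1 := mem_zpowers_mul_of_coprime hsa.symm hco.symm
      rw [← hsa.eq, e1, zpowers_one_eq_bot, mem_bot] at h1
      exact ha1 h1
    have hcard := h.comm_invol hne ht.ord
      (((cm hsD).symm).mul_right
        ((cm ha).symm))
    have hle : centralizer ({s * a} : Set X) ≤ D := e.le.trans inf_le_right
    have hodd_s : ∀ w ∈ D, Odd (orderOf w) → Commute w s := fun w hw how =>
      mem_centralizer_singleton_iff.mp (e.le (odd_mem_of_card hle (h.nmul_two ht hcard) hw how)).1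
    have ho_cen : ∀ g ∈ D, Commute g o := by
      intro g hg
      obtain ⟨s', o', rfl, hs', ho', ⟨k', hk'⟩, hoo'⟩ := two_split g
      have hs'D : s' ∈ D := zpowers_le.mpr hg hs'
      have ho'D : o' ∈ D := zpowers_le.mpr hg ho'
      have hs'a : Commute s' a := hcen s' hs'D
      have hco' : (orderOf s').Coprime (orderOf a) := coprime_two_odd hk' hao
      have e' := cent_mul_of_coprime hs'a hco'
      rw [hCa] at e'
      have hne' : s' * a ≠ 1 := fun e1 => by
        have h1 := mem_zpowers_mul_of_coprime hs'a.symm hco'.symm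
        rw [← hs'a.eq, e1, zpowers_one_eq_bot, mem_bot] at h1
        exact ha1 h1
      have hcard' := h.comm_invol hne' ht.ord
        (((cm hs'D).symm).mul_right
          ((cm ha).symm))
      have h1 : Commute o s' := mem_centralizer_singleton_iff.mp
        (e'.le (odd_mem_of_card (e'.le.trans inf_le_right) (h.nmul_two ht hcard') hoD hoo)).1
      exact h1.symm.mul_left (h.odd_comm ht hoD hoo ho'D hoo')
    refine ⟨centralizer ({s * a} : Set X), hle, h.nmul_two ht hcard, fun g hg => ⟨fun hgE => ?_, fun hgx => ?_⟩⟩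
    · have hgs : Commute g s := mem_centralizer_singleton_iff.mp (e.le hgE).1
      rw [hso]
      exact hgs.mul_right (ho_cen g hg)
    · refine e.ge ⟨cent_le_of_mem_zpowers hs (mem_centralizer_singleton_iff.mpr hgx.eq), hg⟩
  -- elements of `D` have centralisers of order `n` or `2n`
  have hAn : ∀ x ∈ D, x ≠ 1 → x ∈ cOrd X ({P.n, 2 * P.n} : Set ℕ) := fun x hx hx1 =>
    ⟨hx1, h.comm_invol hx1 ht.ord ((cm hx).symm)⟩
  have hDidx : D.index = P.q * P.m := index_of_card (by rw [h.card_eq]; ring) ht.card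
  by_cases hab : ∀ x ∈ D, ∀ y ∈ D, Commute x y
  · -- abelian
    have hCC : IsCC D := by
      intro x hx hx1
      have hle : D ≤ centralizer ({x} : Set X) := fun g hg => mem_centralizer_singleton_iff.mpr (hab g hg x hx).eq
      exact (eq_of_le_of_card_ge hle (by rw [h.dvd_card_two_n hx1 (ht.card ▸ card_dvd_of_le hle), ht.card])).symm
    have hset : cOrd X ({P.n, 2 * P.n} : Set ℕ) = {x : X | x ≠ 1 ∧ ∃ c : X, c * x * c⁻¹ ∈ D} := by
      ext x
      constructor
      · rintro ⟨hx1, hx⟩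
        refine ⟨hx1, ?_⟩
        have h2 : 2 ∣ Nat.card (centralizer ({x} : Set X)) := by
          rcases hx with e | e <;> rw [e]
          · exact P.hn
          · exact dvd_mul_right 2 _
        haveI : Fact (Nat.Prime 2) := ⟨Nat.prime_two⟩
        obtain ⟨i, hi⟩ := exists_prime_orderOf_dvd_card' 2 h2
        have hio : orderOf (i : X) = 2 := by rw [Subgroup.orderOf_coe, hi]
        obtain ⟨c, hc⟩ := exists_conj_mem (C := D) Nat.prime_two
          (by rw [hDidx]; exact fun hd => (Nat.prime_two.dvd_mul.mp hd).elim P.q_odd P.hm)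
          (k := 1) (by rw [hio, pow_one])
        refine ⟨c, ?_⟩
        have hne : c * (i : X) * c⁻¹ ≠ 1 := fun e => by rw [conj_eq_one_iff.mp e, orderOf_one] at hio; omega
        rw [← hCC _ hc hne]
        exact mem_centralizer_singleton_iff.mpr
          (conj_cent_comm ((mem_centralizer_singleton_iff.mp i.2 : Commute (i : X) x).symm)).eq
      · rintro ⟨hx1, c, hc⟩
        have := hAn _ hc (fun e => hx1 (conj_eq_one_iff.mp e))
        exact cOrd_invariant _ _ this x (isConj_iff.mpr ⟨c⁻¹, by group⟩)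
    have h1 : (cOrd X ({P.n, 2 * P.n} : Set ℕ)).ncard = (normalizer (D : Set X)).index * (2 * P.n - 1) := by
      rw [hset, ← Nat.card_coe_set_eq, ← ht.card]
      exact CfsgLib.BSW.conj_count hCC
    obtain ⟨f, hf⟩ : ∃ f, f * (normalizer (D : Set X)).index = P.q * P.m :=
      ⟨D.relIndex (normalizer (D : Set X)), by rw [← hDidx]; exact relIndex_mul_index le_normalizer⟩
    rw [hcnt, ← hf] at h1
    have h2 : (P.n - 1) * f = 2 * P.n - 1 := Nat.eq_of_mul_eq_mul_right
      (Nat.pos_of_ne_zero (index_ne_zero_of_finite (H := normalizer (D : Set X)))) (by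
        rw [mul_assoc, h1, mul_comm])
    have h3 : P.n - 1 ∣ (P.n - 1) * 2 + 1 := ⟨f, by rw [h2]; omega⟩
    have := Nat.le_of_dvd one_pos ((Nat.dvd_add_right (dvd_mul_right _ _)).mp h3)
    omega
  · -- non-abelian
    push Not at hab
    obtain ⟨x₀, hx₀, y₀, hy₀, hne₀⟩ := hab
    let f : X → X → X := fun g x => g * x * g⁻¹ * x⁻¹
    have f1 : ∀ g x : X, f g x = 1 ↔ Commute g x := fun g x => by
      show g * x * g⁻¹ * x⁻¹ = 1 ↔ g * x = x * g
      rw [mul_inv_eq_one, mul_inv_eq_iff_eq_mul]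
    have fconst : ∀ x ∈ D, ∀ g ∈ D, ∀ k ∈ D, ¬ Commute g x → ¬ Commute k x → f g x = f k x := by
      intro x hx g hg k hk hgx hkx
      obtain ⟨E, hEle, hEc, hE⟩ := hidx x hx
      have := (hE _ (mul_mem (inv_mem hk) hg)).mp
        (mul_mem_of_card hEle hEc hk hg (fun e => hkx ((hE k hk).mp e)) (fun e => hgx ((hE g hg).mp e)))
      show g * x * g⁻¹ * x⁻¹ = k * x * k⁻¹ * x⁻¹
      have h9 : k⁻¹ * g * x * (k⁻¹ * g)⁻¹ = x := mul_inv_eq_iff_eq_mul.mpr this
      calc g * x * g⁻¹ * x⁻¹ = k * (k⁻¹ * g * x * (k⁻¹ * g)⁻¹) * k⁻¹ * x⁻¹ := by group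
        _ = _ := by rw [h9]
    have finv : ∀ g x : X, f x g = (f g x)⁻¹ := fun g x => by
      show x * g * x⁻¹ * g⁻¹ = (g * x * g⁻¹ * x⁻¹)⁻¹
      group
    have funion : ∀ x ∈ D, ∀ u ∈ D, (∃ g ∈ D, ¬ Commute g x) → (∃ g ∈ D, ¬ Commute g u) →
        ∃ w ∈ D, ¬ Commute w x ∧ ¬ Commute w u := by
      intro x hx u hu ⟨g, hg, hgx⟩ ⟨k, hk, hku⟩
      by_cases h1 : Commute g u
      · by_cases h2 : Commute k x
        · refine ⟨g * k, mul_mem hg hk, fun e => hgx ?_, fun e => hku ?_⟩
          · simpa using e.mul_left h2.inv_left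
          · simpa using h1.inv_left.mul_left e
        · exact ⟨k, hk, h2, hku⟩
      · exact ⟨g, hg, hgx, h1⟩
    set z := f y₀ x₀ with hz
    have fall : ∀ g ∈ D, ∀ x ∈ D, ¬ Commute g x → f g x = z := by
      intro g hg x hx hgx
      obtain ⟨w, hw, hwx, hwx₀⟩ := funion x hx x₀ hx₀ ⟨g, hg, hgx⟩ ⟨y₀, hy₀, fun e => hne₀ e.symm⟩
      rw [fconst x hx g hg w hw hgx hwx, hz, fconst x₀ hx₀ y₀ hy₀ w hw (fun e => hne₀ e.symm) hwx₀, finv x w,
        finv x₀ w, fconst w hw x₀ hx₀ x hx (fun e => hwx₀ e.symm) (fun e => hwx e.symm)]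
    have hzD : z ∈ D := mul_mem (mul_mem (mul_mem hy₀ hx₀) (inv_mem hy₀)) (inv_mem hx₀)
    have hz1 : z ≠ 1 := fun e => hne₀ ((f1 y₀ x₀).mp e).symm
    have hzfix : ∀ g : X, g ∈ normalizer (D : Set X) → g * z * g⁻¹ = z := by
      intro g hg
      have hy' := (mem_normalizer_iff.mp hg y₀).mp hy₀
      have hx' := (mem_normalizer_iff.mp hg x₀).mp hx₀
      have hnc : ¬ Commute (g * y₀ * g⁻¹) (g * x₀ * g⁻¹) := fun e => hne₀ (by
        have := (conj_cent_comm (g := g⁻¹) e).symm
        simpa [mul_assoc] using this)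
      refine Eq.trans ?_ (fall _ hy' _ hx' hnc)
      show g * (y₀ * x₀ * y₀⁻¹ * x₀⁻¹) * g⁻¹ =
        g * y₀ * g⁻¹ * (g * x₀ * g⁻¹) * (g * y₀ * g⁻¹)⁻¹ * (g * x₀ * g⁻¹)⁻¹
      group
    have hzle : normalizer (D : Set X) ≤ centralizer ({z} : Set X) := fun g hg =>
      mem_centralizer_singleton_iff.mpr (mul_inv_eq_iff_eq_mul.mp (hzfix g hg))
    have hND : normalizer (D : Set X) = D := by
      refine le_antisymm ?_ le_normalizer
      have h1 := h.dvd_card_two_n hz1 (ht.card ▸ card_dvd_of_le (le_normalizer.trans hzle))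
      exact hzle.trans (eq_of_le_of_card_ge (le_normalizer.trans hzle) (by rw [h1, ht.card])).ge
    -- the piece outside the Sylow subgroup
    let T : Set X := {x | x ∈ D ∧ ¬ ∃ k, orderOf x = 2 ^ k}
    have hcpow : ∀ g x : X, orderOf (g * x * g⁻¹) = orderOf x := fun g x =>
      orderOf_injective (MulAut.conj g).toMonoidHom (MulAut.conj g).injective x
    have hTinv : ∀ g ∈ D, ∀ x ∈ T, g * x * g⁻¹ ∈ T := fun g hg x hx =>
      ⟨mul_mem (mul_mem hg hx.1) (inv_mem hg), by rw [hcpow]; exact hx.2⟩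
    have hTI : ∀ g : X, ∀ x ∈ T, g * x * g⁻¹ ∈ T → g ∈ D := by
      intro g x hx hgx
      obtain ⟨s, o, hso, hs, ho, ⟨k, hk⟩, hoo⟩ := two_split x
      have ho1 : o ≠ 1 := fun e => hx.2 ⟨k, by rw [hso, e, mul_one, hk]⟩
      have hcentral : ∀ w ∈ D, Odd (orderOf w) → w ≠ 1 → centralizer ({w} : Set X) = D := by
        intro w hw how hw1
        have hle : D ≤ centralizer ({w} : Set X) := fun g' hg' => by
          obtain ⟨s', o', rfl, hs', ho', ⟨k', hk'⟩, hoo'⟩ := two_split g'
          have hs'D : s' ∈ D := zpowers_le.mpr hg' hs'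
          have ho'D : o' ∈ D := zpowers_le.mpr hg' ho'
          obtain ⟨E, hEle, hEc, hE⟩ := hidx s' hs'D
          have h1 := (hE w hw).mp (odd_mem_of_card hEle hEc hw how)
          exact mem_centralizer_singleton_iff.mpr (h1.symm.mul_left (h.odd_comm ht hw how ho'D hoo')).eq
        exact (eq_of_le_of_card_ge hle (by rw [h.dvd_card_two_n hw1 (ht.card ▸ card_dvd_of_le hle), ht.card])).symm
      have hoD : o ∈ D := zpowers_le.mpr hx.1 ho
      have hgo : g * o * g⁻¹ ∈ D := by
        obtain ⟨i, hi⟩ := mem_zpowers_iff.mp ho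
        rw [← hi, ← conj_zpow]
        exact zpow_mem hgx.1 i
      have e1 := hcentral o hoD hoo ho1
      have e2 := hcentral _ hgo (by rwa [hcpow]) (fun e => ho1 (conj_eq_one_iff.mp e))
      rw [← hND, mem_normalizer_iff]
      intro y
      have key : y ∈ centralizer ({o} : Set X) ↔ g * y * g⁻¹ ∈ centralizer ({g * o * g⁻¹} : Set X) := by
        rw [mem_centralizer_singleton_iff, mem_centralizer_singleton_iff]
        exact ⟨fun e => conj_cent_comm (g := g) e, fun e => by
          have := conj_cent_comm (g := g⁻¹) e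
          simpa [mul_assoc] using this.eq⟩
      rwa [e1, e2] at key
    have hTsub : {y : X | ∃ g : X, g * y * g⁻¹ ∈ T} ⊆ cOrd X ({P.n, 2 * P.n} : Set ℕ) := by
      rintro y ⟨g, hg⟩
      have := hAn _ hg.1 (fun e => hg.2 ⟨0, by rw [e, orderOf_one, pow_zero]⟩)
      exact cOrd_invariant _ _ this y (isConj_iff.mpr ⟨g⁻¹, by group⟩)
    have hle := Set.ncard_le_ncard hTsub (Set.toFinite _)
    rw [union_count D T hTinv hTI, hcnt, hDidx, mul_comm (P.n - 1)] at hle
    have hT1 : T.ncard ≤ P.n - 1 := Nat.le_of_mul_le_mul_left hle (Nat.mul_pos P.q_pos P.m_pos)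
    have hcompl : ((D : Set X) \ T).ncard ≤ T.ncard := by
      refine Set.ncard_le_ncard_of_injOn (· * a) ?_ (fun x _ y _ e => mul_right_cancel e) (Set.toFinite _)
      rintro x ⟨hx, hxT⟩
      refine ⟨mul_mem hx ha, ?_⟩
      have hx2 : ∃ k, orderOf x = 2 ^ k := by
        by_contra hno
        exact hxT ⟨hx, hno⟩
      obtain ⟨k, hk⟩ := hx2
      rintro ⟨i, hi⟩
      rw [(hcen x hx).orderOf_mul_eq_mul_orderOf_of_coprime (coprime_two_odd hk hao)] at hi
      have h1 : orderOf a ∣ 2 ^ i := ⟨orderOf x, by rw [← hi, mul_comm]⟩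
      obtain ⟨j, -, hj⟩ := (Nat.dvd_prime_pow Nat.prime_two).mp h1
      rcases j with _ | j
      · rw [pow_zero] at hj
        exact ha1 (orderOf_eq_one_iff.mp hj)
      · exact hao.not_two_dvd_nat (hj ▸ dvd_pow_self 2 (by omega))
    have hDT := Set.ncard_diff_add_ncard_of_subset (s := T) (t := (D : Set X)) (fun x hx => hx.1) (Set.toFinite _)
    have hDn : (D : Set X).ncard = 2 * P.n := by rw [← Nat.card_coe_set_eq]; exact ht.card
    omega

omit ht

variable {r : ℕ} (hr : r.Prime) (hr2 : r ≠ 2) (hrn : r ∣ P.n)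
include hr hr2 hrn

theorem exists_odd {E : Subgroup X} (hE : P.n ∣ Nat.card E) : ∃ v ∈ E, Odd (orderOf v) ∧ v ≠ 1 := by
  haveI : Fact r.Prime := ⟨hr⟩
  obtain ⟨v, hv⟩ := exists_prime_orderOf_dvd_card' (G := E) r (hrn.trans hE)
  have hvo : orderOf (v : X) = r := by rw [Subgroup.orderOf_coe, hv]
  refine ⟨v, v.2, hvo ▸ hr.odd_of_ne_two hr2, fun e => ?_⟩
  rw [e, orderOf_one] at hvo
  exact hr.ne_one hvo.symm

omit hr hr2 hrn
include ht

/-- The centraliser of an odd element of `C(t)`. -/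
theorem odd_cent {a : X} (ha : a ∈ centralizer ({t} : Set X)) (hao : Odd (orderOf a)) (ha1 : a ≠ 1) :
    Nat.card (centralizer ({a} : Set X)) = P.n ∧ centralizer ({a} : Set X) ≤ centralizer ({t} : Set X) ∧
      ∀ x ∈ centralizer ({a} : Set X), ∀ y ∈ centralizer ({a} : Set X), Commute x y := by
  have hat : Commute a t := mem_centralizer_singleton_iff.mp ha
  have hcard : Nat.card (centralizer ({a} : Set X)) = P.n := by
    refine (h.comm_invol ha1 ht.ord hat.symm).resolve_right fun e => ?_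
    have hidx : (centralizer ({a} : Set X)).index = P.q * P.m := index_of_card (by rw [h.card_eq]; ring) e
    obtain ⟨u, hu, S, hS1, hS2, huS, hS3⟩ := h.exists_isMax (H := centralizer ({a} : Set X))
      (by rw [hidx]; exact fun hd => (Nat.prime_two.dvd_mul.mp hd).elim P.q_odd P.hm)
    have hau : a ∈ centralizer ({u} : Set X) :=
      mem_centralizer_singleton_iff.mpr (mem_centralizer_singleton_iff.mp (hS1 huS)).symm
    obtain ⟨hi, -⟩ := h.cent_mul_cases hu hau hao
    have hne : a * u ≠ 1 := fun e1 => by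
      have h1 := mem_zpowers_mul_of_coprime (cm hau)
        (coprime_two_odd (k := 1) hu.ord hao).symm
      rw [e1, zpowers_one_eq_bot, mem_bot] at h1
      exact ha1 h1
    have h2 := h.card_of_odd_index hne ((le_inf hS1 hS2).trans hi.ge) hS3
    have e1 := eq_of_le_of_card_ge (hi.le.trans inf_le_left) (by rw [h2, e])
    have e2 := eq_of_le_of_card_ge (hi.le.trans inf_le_right) (by rw [h2, hu.card])
    exact h.no_central hu hau hao ha1 fun g hg =>
      mem_centralizer_singleton_iff.mp ((e1.symm.trans e2).ge hg)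
  have hle : centralizer ({a} : Set X) ≤ centralizer ({t} : Set X) := by
    obtain ⟨hi, hc⟩ := h.cent_mul_cases ht ha hao
    have : centralizer ({a * t} : Set X) = centralizer ({a} : Set X) :=
      eq_of_le_of_card_ge (hi.le.trans inf_le_left) (by rcases hc with c | c <;> rw [c, hcard]; omega)
    exact this.ge.trans (hi.le.trans inf_le_right)
  refine ⟨hcard, hle, fun x hx y hy => ?_⟩
  have htwo : ∀ s ∈ centralizer ({a} : Set X), (∃ k, orderOf s = 2 ^ k) → ∀ w ∈ centralizer ({a} : Set X), Commute w s := by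
    rintro s hs ⟨k, hk⟩ w hw
    have hsa : Commute s a := mem_centralizer_singleton_iff.mp hs
    have hco : (orderOf s).Coprime (orderOf a) := coprime_two_odd hk hao
    have e := cent_mul_of_coprime hsa hco
    have hne : s * a ≠ 1 := fun e1 => by
      have h1 := mem_zpowers_mul_of_coprime hsa.symm hco.symm
      rw [← hsa.eq, e1, zpowers_one_eq_bot, mem_bot] at h1
      exact ha1 h1
    have hc := h.comm_invol hne ht.ord ((cm (hle hs)).symm.mul_right hat.symm)
    have : centralizer ({s * a} : Set X) = centralizer ({a} : Set X) :=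
      eq_of_le_of_card_ge (e.le.trans inf_le_right) (by rcases hc with c | c <;> rw [c, hcard]; omega)
    exact mem_centralizer_singleton_iff.mp (e.le (this.ge hw)).1
  obtain ⟨s, o, rfl, hs, ho, hk, hoo⟩ := two_split x
  obtain ⟨s', o', rfl, hs', ho', hk', hoo'⟩ := two_split y
  have hsK := zpowers_le.mpr hx hs
  have hoK := zpowers_le.mpr hx ho
  have hs'K := zpowers_le.mpr hy hs'
  have ho'K := zpowers_le.mpr hy ho'
  exact Commute.mul_left ((htwo s hsK hk _ (zpowers_le.mpr hy (mem_zpowers _))).symm)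
    (Commute.mul_right (htwo s' hs'K hk' o hoK) (h.odd_comm ht (hle ho'K) hoo' (hle hoK) hoo))

variable {a : X} (ha : a ∈ centralizer ({t} : Set X)) (hao : Odd (orderOf a)) (ha1 : a ≠ 1)
include ha hao ha1

theorem odd_cent_eq {b : X} (hb : b ∈ centralizer ({t} : Set X)) (hbo : Odd (orderOf b)) (hb1 : b ≠ 1) :
    centralizer ({b} : Set X) = centralizer ({a} : Set X) := by
  obtain ⟨hca, -, hab⟩ := h.odd_cent ht ha hao ha1
  obtain ⟨hcb, -, -⟩ := h.odd_cent ht hb hbo hb1
  have hbK : b ∈ centralizer ({a} : Set X) := mem_centralizer_singleton_iff.mpr (h.odd_comm ht ha hao hb hbo).eq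
  exact (eq_of_le_of_card_ge (fun x hx => mem_centralizer_singleton_iff.mpr (hab x hx b hbK).eq)
    (by rw [hca, hcb])).symm

include hr hr2 hrn

theorem outside_inverts {s : X} (hs : s ∈ centralizer ({t} : Set X)) (hsK : s ∉ centralizer ({a} : Set X)) :
    s * s = 1 ∧ ∀ k ∈ centralizer ({a} : Set X), s * k * s⁻¹ = k⁻¹ := by
  obtain ⟨hca, hle, hab⟩ := h.odd_cent ht ha hao ha1
  set K := centralizer ({a} : Set X) with hK
  set D := centralizer ({t} : Set X) with hD
  have hKD : Nat.card D = Nat.card K ∨ Nat.card D = 2 * Nat.card K := by rw [ht.card, hca]; exact Or.inr rfl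
  have key : ∀ s ∈ D, s ∉ K → s * s = 1 := by
    intro s hs hsK
    have hy : s * s ∈ K := sq_mem_of_card hle hKD hs
    by_contra hne
    have hcen : D ≤ centralizer ({s * s} : Set X) := by
      intro g hg
      rw [mem_centralizer_singleton_iff]
      by_cases hgK : g ∈ K
      · exact (hab g hgK _ hy).eq
      · have h1 := mul_mem_of_card hle hKD hs hg hsK hgK
        have hsy : Commute s (s * s) := (Commute.refl s).mul_right (Commute.refl s)
        have := hsy.mul_left (hab _ h1 _ hy)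
        rwa [mul_inv_cancel_left] at this
    have hCy : centralizer ({s * s} : Set X) = D := (eq_of_le_of_card_ge hcen (by
      rw [h.dvd_card_two_n hne (ht.card ▸ card_dvd_of_le hcen), ht.card])).symm
    have hs1 : s ≠ 1 := fun e => hsK (e ▸ K.one_mem)
    have hc := h.comm_invol hs1 ht.ord (cm hs).symm
    obtain ⟨v, hv, hvo, hv1⟩ := h.exists_odd hr hr2 hrn (E := centralizer ({s} : Set X))
      (by rcases hc with c | c <;> rw [c]; exact dvd_mul_left _ _)
    have hvD : v ∈ D := hCy.le (mem_centralizer_singleton_iff.mpr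
      ((cm hv).mul_right (mem_centralizer_singleton_iff.mp hv)).eq)
    exact hsK ((h.odd_cent_eq ht ha hao ha1 hvD hvo hv1).le
      (mem_centralizer_singleton_iff.mpr (mem_centralizer_singleton_iff.mp hv).symm))
  refine ⟨key s hs hsK, fun k hk => ?_⟩
  have hskK : s * k ∉ K := fun e => hsK (by simpa using mul_mem e (inv_mem hk))
  have h1 := key _ (mul_mem hs (hle hk)) hskK
  rw [inv_eq_of_mul_eq_one_right (key s hs hsK)]
  exact eq_inv_of_mul_eq_one_left (by rw [mul_assoc]; exact h1)

/-- An element of `C(a)` inverted to itself is central. -/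
theorem invol_cent {w : X} (hw : w ∈ centralizer ({a} : Set X)) (hw2 : w * w = 1) (hw1 : w ≠ 1) :
    centralizer ({w} : Set X) = centralizer ({t} : Set X) := by
  obtain ⟨hca, hle, hab⟩ := h.odd_cent ht ha hao ha1
  have hcen : centralizer ({t} : Set X) ≤ centralizer ({w} : Set X) := by
    intro g hg
    rw [mem_centralizer_singleton_iff]
    by_cases hgK : g ∈ centralizer ({a} : Set X)
    · exact (hab g hgK w hw).eq
    · have := (h.outside_inverts ht hr hr2 hrn ha hao ha1 hg hgK).2 w hw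
      rw [inv_eq_of_mul_eq_one_right hw2] at this
      exact mul_inv_eq_iff_eq_mul.mp this
  exact (eq_of_le_of_card_ge hcen (by rw [h.dvd_card_two_n hw1 (ht.card ▸ card_dvd_of_le hcen), ht.card])).symm

theorem unique_invol {z : X} (hz : z ∈ centralizer ({a} : Set X)) (hz2 : z * z = 1) (hz1 : z ≠ 1) : z = t := by
  obtain ⟨hca, hle, hab⟩ := h.odd_cent ht ha hao ha1
  have htK : t ∈ centralizer ({a} : Set X) :=
    mem_centralizer_singleton_iff.mpr (mem_centralizer_singleton_iff.mp ha).symm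
  by_contra hne
  have ht2 : t * t = 1 := by rw [← pow_two, ← ht.ord, pow_orderOf_eq_one]
  obtain ⟨s, hs, hsK⟩ : ∃ s ∈ centralizer ({t} : Set X), s ∉ centralizer ({a} : Set X) :=
    SetLike.exists_of_lt (lt_of_le_of_ne hle fun e => by
      rw [e, ht.card] at hca
      have := P.n_pos
      omega)
  obtain ⟨hss, hsinv⟩ := h.outside_inverts ht hr hr2 hrn ha hao ha1 hs hsK
  have hso : orderOf s = 2 := orderOf_eq_prime (by rw [sq]; exact hss) (fun e => hsK (e ▸ one_mem _))
  have hs1 : s ≠ 1 := fun e => hsK (e ▸ one_mem _)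
  have hcomm : ∀ w ∈ centralizer ({a} : Set X), w * w = 1 → w ∈ centralizer ({s} : Set X) := fun w hw hw2 => by
    have := hsinv w hw
    rw [inv_eq_of_mul_eq_one_right hw2] at this
    exact mem_centralizer_singleton_iff.mpr (mul_inv_eq_iff_eq_mul.mp this).symm
  obtain ⟨v, hv, hvo, hv1⟩ := h.exists_odd hr hr2 hrn (E := centralizer ({s} : Set X))
    (by rcases h.comm_invol hs1 hso (Commute.refl s) with c | c <;> rw [c]; exact dvd_mul_left _ _)
  have hvs : Commute v s := mem_centralizer_singleton_iff.mp hv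
  have hvD : v ∈ centralizer ({t} : Set X) → False := fun hvD => hsK
    ((h.odd_cent_eq ht ha hao ha1 hvD hvo hv1).le (mem_centralizer_singleton_iff.mpr hvs.symm.eq))
  rcases h.comm_invol hs1 hso (Commute.refl s) with c | c
  · have hco : (orderOf v).Coprime (orderOf s) := (coprime_two_odd (k := 1) hso hvo).symm
    have e := cent_mul_of_coprime hvs hco
    have hne' : v * s ≠ 1 := fun e1 => by
      have h1 := mem_zpowers_mul_of_coprime hvs hco
      rw [e1, zpowers_one_eq_bot, mem_bot] at h1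
      exact hv1 h1
    have hc' := h.comm_invol hne' hso (hvs.symm.mul_right (Commute.refl s))
    have e1 : centralizer ({v * s} : Set X) = centralizer ({s} : Set X) :=
      eq_of_le_of_card_ge (e.le.trans inf_le_right) (by rcases hc' with c' | c' <;> rw [c', c]; omega)
    exact hvD (mem_centralizer_singleton_iff.mpr
      (mem_centralizer_singleton_iff.mp (e.le (e1.ge (hcomm t htK ht2))).1).symm)
  · have hs' : IsMax P s := ⟨hso, c⟩
    obtain ⟨hcv, hlev, -⟩ := h.odd_cent hs' hv hvo hv1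
    have main : ∀ w ∈ centralizer ({a} : Set X), w * w = 1 → w ≠ 1 → w ∈ centralizer ({v} : Set X) → False := by
      intro w hw hw2 hw1 hwv
      have e1 := h.invol_cent ht hr hr2 hrn ha hao ha1 hw hw2 hw1
      have e2 := h.invol_cent hs' hr hr2 hrn hv hvo hv1 hwv hw2 hw1
      exact hvD ((e1.symm.trans e2).ge hv)
    have hKD' : Nat.card (centralizer ({s} : Set X)) = Nat.card (centralizer ({v} : Set X)) ∨
        Nat.card (centralizer ({s} : Set X)) = 2 * Nat.card (centralizer ({v} : Set X)) := Or.inr (by rw [c, hcv])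
    by_cases h1 : t ∈ centralizer ({v} : Set X)
    · exact main t htK ht2 ht.ne_one h1
    by_cases h2 : z ∈ centralizer ({v} : Set X)
    · exact main z hz hz2 hz1 h2
    have h3 := mul_mem_of_card hlev hKD' (hcomm t htK ht2) (hcomm z hz hz2) h1 h2
    rw [inv_eq_of_mul_eq_one_right ht2] at h3
    refine main (t * z) (mul_mem htK hz) ?_ (fun e => hne ?_) h3
    · have : Commute z t := hab z hz t htK
      rw [mul_assoc, ← mul_assoc z, this.eq, mul_assoc, hz2, mul_one, ht2]
    · rw [← mul_eq_one_iff_eq_inv'.mp e |>.trans (inv_eq_of_mul_eq_one_right ht2)]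

omit ht ha hao ha1

/-- The configuration of Brauer, Suzuki and Wall. -/
theorem exists_setup : Nonempty (CfsgLib.BSW.Setup X) := by
  obtain ⟨t, ht, -⟩ := h.exists_isMax (H := (⊤ : Subgroup X)) (by rw [index_top]; norm_num)
  obtain ⟨a, ha, hao, ha1⟩ := h.exists_odd hr hr2 hrn (E := centralizer ({t} : Set X))
    (by rw [ht.card]; exact dvd_mul_left _ _)
  obtain ⟨hca, hle, hab⟩ := h.odd_cent ht ha hao ha1
  set K := centralizer ({a} : Set X) with hK
  set D := centralizer ({t} : Set X) with hD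
  have hn4 := P.hn4
  obtain ⟨s, hs, hsK⟩ : ∃ s ∈ D, s ∉ K := SetLike.exists_of_lt (lt_of_le_of_ne hle fun e => by
    rw [e, ht.card] at hca
    omega)
  obtain ⟨hss, hsinv⟩ := h.outside_inverts ht hr hr2 hrn ha hao ha1 hs hsK
  have huniq : ∀ z ∈ K, z * z = 1 → z ≠ 1 → z = t := fun z hz hz2 hz1 =>
    h.unique_invol ht hr hr2 hrn ha hao ha1 hz hz2 hz1
  have ht2 : t * t = 1 := by rw [← pow_two, ← ht.ord, pow_orderOf_eq_one]
  have htK : t ∈ K := mem_centralizer_singleton_iff.mpr (mem_centralizer_singleton_iff.mp ha).symm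
  -- centralisers of elements of `K`
  have hcy : ∀ y ∈ K, y ≠ 1 → y ≠ t → centralizer ({y} : Set X) = K := by
    intro y hy hy1 hyt
    have hKle : K ≤ centralizer ({y} : Set X) := fun x hx => mem_centralizer_singleton_iff.mpr (hab x hx y hy).eq
    have hD' : centralizer ({y} : Set X) ≤ D := by
      by_cases ho : Odd (orderOf y)
      · exact (h.odd_cent_eq ht ha hao ha1 (hle hy) ho hy1).le.trans hle
      · obtain ⟨j, hj⟩ := even_iff_two_dvd.mp (Nat.not_odd_iff_even.mp ho)
        have hj0 : 0 < j := by have := orderOf_pos y; omega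
        have hpj : y ^ j = t := huniq _ (pow_mem hy j) (by
          rw [← pow_add, show j + j = orderOf y by omega, pow_orderOf_eq_one]) fun e => by
          have := Nat.le_of_dvd hj0 (orderOf_dvd_of_pow_eq_one e)
          omega
        refine le_trans (cent_le_of_mem_zpowers (w := y ^ j) (npow_mem_zpowers y j)) ?_
        rw [hpj]
    refine le_antisymm (fun g hg => ?_) hKle
    by_contra hgK
    have h1 := (h.outside_inverts ht hr hr2 hrn ha hao ha1 (hD' hg) hgK).2 y hy
    rw [mem_centralizer_singleton_iff.mp hg, mul_inv_cancel_right] at h1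
    exact hyt (huniq y hy (eq_inv_iff_mul_eq_one.mp h1) hy1)
  have hTI : ∀ g : X, ∀ y ∈ K, y ≠ 1 → g * y * g⁻¹ ∈ K → g ∈ D := by
    intro g y hy hy1 hgy
    have hgy1 : g * y * g⁻¹ ≠ 1 := fun e => hy1 (conj_eq_one_iff.mp e)
    have main : g * t * g⁻¹ = t := by
      by_cases hyt : y = t
      · refine huniq _ (hyt ▸ hgy) ?_ (hyt ▸ hgy1)
        rw [show g * t * g⁻¹ * (g * t * g⁻¹) = g * (t * t) * g⁻¹ by group, ht2]
        group
      · refine huniq _ ?_ ?_ (fun e => ht.ne_one (conj_eq_one_iff.mp e))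
        · rw [← hcy _ hgy hgy1 fun e => hyt ?_]
          · exact mem_centralizer_singleton_iff.mpr
              (conj_cent_comm (g := g) ((mem_centralizer_singleton_iff.mp ((hcy y hy hy1 hyt).ge htK) : Commute t y))).eq
          · refine huniq y hy ?_ hy1
            have : g * y * g⁻¹ * (g * y * g⁻¹) = 1 := by rw [e, ht2]
            rw [show g * y * g⁻¹ * (g * y * g⁻¹) = g * (y * y) * g⁻¹ by group] at this
            exact conj_eq_one_iff.mp this
        · rw [show g * t * g⁻¹ * (g * t * g⁻¹) = g * (t * t) * g⁻¹ by group, ht2]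
          group
    exact mem_centralizer_singleton_iff.mpr (mul_inv_eq_iff_eq_mul.mp main)
  have hinvT : ∀ g ∈ D, ∀ x ∈ (K : Set X) \ {1}, g * x * g⁻¹ ∈ (K : Set X) \ {1} := by
    rintro g hg x ⟨hx, hx1⟩
    refine ⟨?_, fun e => hx1 (conj_eq_one_iff.mp e)⟩
    by_cases hgK : g ∈ K
    · exact mul_mem (mul_mem hgK hx) (inv_mem hgK)
    · show g * x * g⁻¹ ∈ K
      rw [(h.outside_inverts ht hr hr2 hrn ha hao ha1 hg hgK).2 x hx]
      exact inv_mem hx
  have hDidx : D.index = P.q * P.m := index_of_card (by rw [h.card_eq]; ring) ht.card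
  have huc := union_count D ((K : Set X) \ {1}) hinvT (fun g x hx hgx => hTI g x hx.1 hx.2 hgx.1)
  have hset : {y : X | ∃ g : X, g * y * g⁻¹ ∈ (K : Set X) \ {1}} = cOrd X ({P.n, 2 * P.n} : Set ℕ) := by
    refine Set.eq_of_subset_of_ncard_le ?_ ?_ (Set.toFinite _)
    · rintro y ⟨g, hgK, hg1⟩
      have hy1 : y ≠ 1 := fun e => hg1 (by rw [e, mul_one, mul_inv_cancel]; rfl)
      refine cOrd_invariant _ (g * y * g⁻¹) ⟨fun e => hy1 (conj_eq_one_iff.mp e), ?_⟩ y (isConj_iff.mpr ⟨g⁻¹, by group⟩)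
      exact h.comm_invol (fun e => hy1 (conj_eq_one_iff.mp e)) ht.ord
        ((mem_centralizer_singleton_iff.mp (hle hgK) : Commute (g * y * g⁻¹) t).symm)
    · rw [huc, (h.counts).2, hDidx, Set.ncard_diff_singleton_of_mem (show (1 : X) ∈ (K : Set X) from one_mem K),
        ← Nat.card_coe_set_eq (K : Set X)]
      show (P.n - 1) * (P.q * P.m) ≤ P.q * P.m * (Nat.card K - 1)
      rw [hca, mul_comm]
  have hclass : ∀ x : X, orderOf x = 2 → IsConj x t := by
    intro x hx
    have hx1 : x ≠ 1 := fun e => by simp [e] at hx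
    have hmem : x ∈ cOrd X ({P.n, 2 * P.n} : Set ℕ) := ⟨hx1, h.comm_invol hx1 hx (Commute.refl x)⟩
    rw [← hset] at hmem
    obtain ⟨g, hgK, hg1⟩ := hmem
    refine isConj_iff.mpr ⟨g, huniq _ hgK ?_ hg1⟩
    rw [show g * x * g⁻¹ * (g * x * g⁻¹) = g * (x * x) * g⁻¹ by group, ← pow_two, ← hx, pow_orderOf_eq_one]
    group
  exact ⟨{
    t := t
    K := K
    s := s
    ht := ht.ord
    comm := fun x hx y hy => (hab x hx y hy).eq
    htK := htK
    hs := orderOf_eq_prime (by rw [sq]; exact hss) (fun e => hsK (e ▸ K.one_mem))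
    hsK := hsK
    hH := by
      refine le_antisymm (sup_le hle (zpowers_le.mpr hs)) fun g hg => ?_
      by_cases hgK : g ∈ K
      · exact mem_sup_left hgK
      · have := mul_mem_of_card hle (Or.inr (by rw [ht.card, hca])) hs hg hsK hgK
        have h2 := mul_mem (mem_sup_right (mem_zpowers s) : s ∈ K ⊔ zpowers s) (mem_sup_left this)
        rwa [mul_inv_cancel_left] at h2
    hCK := by
      refine le_antisymm ?_ ?_
      · rintro x ⟨hx, hxs⟩
        by_cases hx1 : x = 1
        · rw [hx1]; exact one_mem _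
        have h1 := hsinv x hx
        rw [← (mem_centralizer_singleton_iff.mp hxs), mul_inv_cancel_right] at h1
        rw [huniq x hx (eq_inv_iff_mul_eq_one.mp h1) hx1]
        exact mem_zpowers t
      · refine zpowers_le.mpr ⟨htK, ?_⟩
        exact mem_centralizer_singleton_iff.mpr (mem_centralizer_singleton_iff.mp hs).symm
    hinv := hsinv
    hTI := fun g hg => by
      refine (eq_bot_iff_forall _).mpr ?_
      rintro z ⟨hz, y, hy, rfl⟩
      by_contra hz1
      exact hg (hTI g y hy (fun e => hz1 (by rw [e, map_one])) hz)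
    hconj := fun x y hx hy => (hclass x hx).trans (hclass y hy).symm }⟩

end XOdd

end CfsgLib.CsPSL
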