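import Cfsg.Agent.Lib.ClassSizesPSL2.Index

/-!
Centralisers in the central quotient.
-/

set_option autoImplicit false

namespace CfsgLib.CsPSL

open Subgroup

variable {G : Type*} [Group G] [Finite G]

/-- The centraliser order modulo the centre. -/
noncomputable abbrev cz (g : G) : ℕ := (center G).relIndex (centralizer ({g} : Set G))

theorem cz_mul (g : G) : cz g * cs g = (center G).index := relIndex_mul_index (center_le_cent g)

/-- The preimage of a centraliser in the central quotient. -/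
abbrev qc (g : G) : Subgroup G :=
  (centralizer ({(g : G ⧸ center G)} : Set (G ⧸ center G))).comap (QuotientGroup.mk' (center G))

theorem cent_le_qc (g : G) : centralizer ({g} : Set G) ≤ qc g := fun h hh =>
  mem_centralizer_singleton_iff.mpr (by
    show ((h * g : G) : G ⧸ center G) = ((g * h : G) : G ⧸ center G)
    rw [mem_centralizer_singleton_iff.mp hh])

theorem card_cent_quot (g : G) :
    Nat.card (centralizer ({(g : G ⧸ center G)} : Set (G ⧸ center G))) =
      cz g * (centralizer ({g} : Set G)).relIndex (qc g) := by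
  rw [cz, relIndex_mul_relIndex _ _ _ (center_le_cent g) (cent_le_qc g)]
  have h := relIndex_comap (⊥ : Subgroup (G ⧸ center G)) (QuotientGroup.mk' (center G)) (qc g)
  rw [MonoidHom.comap_bot, QuotientGroup.ker_mk',
    map_comap_eq_self_of_surjective (QuotientGroup.mk'_surjective _), relIndex_bot_left] at h
  exact h.symm

theorem orderOf_dvd_cz (g : G) : orderOf (g : G ⧸ center G) ∣ cz g := by
  have h := relIndex_comap (⊥ : Subgroup (G ⧸ center G)) (QuotientGroup.mk' (center G))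
    (centralizer ({g} : Set G))
  rw [MonoidHom.comap_bot, QuotientGroup.ker_mk', relIndex_bot_left] at h
  rw [cz, h]
  exact Subgroup.orderOf_dvd_natCard _ ⟨g, mem_centralizer_singleton_iff.mpr rfl, rfl⟩

/-- The excess of a centraliser in the central quotient. -/
theorem prime_dvd_excess (g : G) {r : ℕ} (hr : r.Prime) (h : r ∣ (centralizer ({g} : Set G)).relIndex (qc g)) :
    r ∣ orderOf (g : G ⧸ center G) := by
  have hmem : ∀ k : qc g, (k : G) * g * (k : G)⁻¹ * g⁻¹ ∈ center G := fun k => by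
    rw [← QuotientGroup.eq_one_iff]
    have h1 : ((k : G) : G ⧸ center G) * (g : G ⧸ center G) = (g : G ⧸ center G) * ((k : G) : G ⧸ center G) :=
      mem_centralizer_singleton_iff.mp k.2
    rw [QuotientGroup.mk_mul, QuotientGroup.mk_mul, QuotientGroup.mk_mul, QuotientGroup.mk_inv, h1,
      QuotientGroup.mk_inv, mul_inv_cancel_right, mul_inv_cancel]
  let ψ : qc g →* center G :=
    { toFun := fun k => ⟨(k : G) * g * (k : G)⁻¹ * g⁻¹, hmem k⟩
      map_one' := Subtype.ext (by simp)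
      map_mul' := fun a b => Subtype.ext (by
        show (a : G) * b * g * ((a : G) * b)⁻¹ * g⁻¹ =
          (a : G) * g * (a : G)⁻¹ * g⁻¹ * ((b : G) * g * (b : G)⁻¹ * g⁻¹)
        have hc := mem_center_iff.mp (hmem b) ((a : G) * g * (a : G)⁻¹ * g⁻¹)
        have hc2 := mem_center_iff.mp (hmem b) (a : G)
        rw [hc]
        calc (a : G) * b * g * ((a : G) * b)⁻¹ * g⁻¹
            = (a : G) * ((b : G) * g * (b : G)⁻¹ * g⁻¹) * (g * (a : G)⁻¹ * g⁻¹) := by group
          _ = (b : G) * g * (b : G)⁻¹ * g⁻¹ * a * (g * (a : G)⁻¹ * g⁻¹) := by rw [hc2]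
          _ = _ := by group) }
  have hker : ψ.ker = (centralizer ({g} : Set G)).subgroupOf (qc g) := by
    ext k
    rw [MonoidHom.mem_ker, mem_subgroupOf, mem_centralizer_singleton_iff, Subtype.ext_iff]
    show (k : G) * g * (k : G)⁻¹ * g⁻¹ = 1 ↔ _
    rw [mul_inv_eq_one, mul_inv_eq_iff_eq_mul]
  have hr' : r ∣ Nat.card ψ.range := by
    rw [← index_ker, hker]
    exact h
  haveI : Fact r.Prime := ⟨hr⟩
  obtain ⟨z', hz'⟩ := exists_prime_orderOf_dvd_card' (G := ψ.range) r hr'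
  obtain ⟨k, hk⟩ := z'.2
  set z : center G := (z' : center G)
  have hz : orderOf (z : G) = r := by
    rw [Subgroup.orderOf_coe, ← hz']
    exact Subgroup.orderOf_coe z'
  set o := orderOf (g : G ⧸ center G)
  have hgo : g ^ o ∈ center G := by
    rw [← QuotientGroup.eq_one_iff, QuotientGroup.mk_pow]
    exact pow_orderOf_eq_one _
  have hzg : (k : G) * g * (k : G)⁻¹ = (z : G) * g := by
    rw [← hk]
    show _ = (k : G) * g * (k : G)⁻¹ * g⁻¹ * g
    group
  have hcomm : Commute (z : G) g := (mem_center_iff.mp z.2 g).symm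
  have h1 := congrArg (· ^ o) hzg
  simp only [conj_pow, hcomm.mul_pow] at h1
  rw [mem_center_iff.mp hgo (k : G), mul_inv_cancel_right] at h1
  rw [← hz]
  exact orderOf_dvd_of_pow_eq_one (mul_eq_right.mp h1.symm)

theorem excess_dvd (g : G) :
    cz g * (centralizer ({g} : Set G)).relIndex (qc g) ∣ (center G).index := by
  rw [← card_cent_quot]
  exact Subgroup.card_subgroup_dvd_card _

/-- No excess when `cz g` is prime to `cs g`. -/
theorem card_cent_quot_eq {g : G} (hco : Nat.Coprime (cz g) (cs g)) :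
    Nat.card (centralizer ({(g : G ⧸ center G)} : Set (G ⧸ center G))) = cz g := by
  have hd := excess_dvd g
  rw [← cz_mul g] at hd
  have hd' : (centralizer ({g} : Set G)).relIndex (qc g) ∣ cs g :=
    Nat.dvd_of_mul_dvd_mul_left (Nat.pos_of_ne_zero fun e => by
      have := cz_mul g
      rw [e, zero_mul] at this
      exact index_ne_zero_of_finite this.symm) hd
  have h1 : (centralizer ({g} : Set G)).relIndex (qc g) = 1 := by
    by_contra hne
    obtain ⟨r, hr, hrd⟩ := Nat.exists_prime_and_dvd hne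
    exact hr.not_dvd_one (Nat.Coprime.eq_one_of_dvd
      (hco.coprime_dvd_left ((prime_dvd_excess g hr hrd).trans (orderOf_dvd_cz g))) (hrd.trans hd') ▸ dvd_rfl)
  rw [card_cent_quot, h1, mul_one]

/-- Centraliser orders in the quotient, `q` odd. -/
structure XOdd (P : OddPar) (X : Type*) [Group X] : Prop where
  card_eq : Nat.card X = P.L
  cases : ∀ x : X, x ≠ 1 → Nat.card (centralizer ({x} : Set X)) = P.q ∨ Nat.card (centralizer ({x} : Set X)) = P.m ∨
    Nat.card (centralizer ({x} : Set X)) = P.n ∨ Nat.card (centralizer ({x} : Set X)) = 2 * P.n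
  exists_q : ∃ x : X, x ≠ 1 ∧ Nat.card (centralizer ({x} : Set X)) = P.q
  exists_m : ∃ x : X, x ≠ 1 ∧ Nat.card (centralizer ({x} : Set X)) = P.m
  exists_n : ∃ x : X, x ≠ 1 ∧ Nat.card (centralizer ({x} : Set X)) = 2 * P.n

theorem quot_ne_one {g : G} (hg : g ∉ center G) : (g : G ⧸ center G) ≠ 1 := fun h =>
  hg ((QuotientGroup.eq_one_iff g).mp h)

/-- The four cases. -/
theorem quot_cases {P : OddPar} (hD : SizeData G P.sizes) {g : G} (hg : g ∉ center G) :
    (cs g = 2 * P.n * P.m ∧ cz g = P.q ∧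
      Nat.card (centralizer ({(g : G ⧸ center G)} : Set (G ⧸ center G))) = P.q) ∨
    (cs g = 2 * P.q * P.n ∧ cz g = P.m ∧
      Nat.card (centralizer ({(g : G ⧸ center G)} : Set (G ⧸ center G))) = P.m) ∨
    (cs g = P.q * P.m ∧ cz g = 2 * P.n ∧
      Nat.card (centralizer ({(g : G ⧸ center G)} : Set (G ⧸ center G))) = 2 * P.n) ∨
    (cs g = 2 * P.q * P.m ∧ cz g = P.n ∧
      (Nat.card (centralizer ({(g : G ⧸ center G)} : Set (G ⧸ center G))) = P.n ∨
        Nat.card (centralizer ({(g : G ⧸ center G)} : Set (G ⧸ center G))) = 2 * P.n)) := by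
  have hi := index_center_odd P hD
  have hmul := cz_mul g
  rw [hi] at hmul
  have hcsne : cs g ≠ 0 := index_ne_zero_of_finite
  have hq0 := P.q_pos
  have hm0 := P.m_pos
  have hn0 := P.n_pos
  have key : ∀ c : ℕ, c * cs g = P.L → cz g = c := fun c hc =>
    Nat.eq_of_mul_eq_mul_right (Nat.pos_of_ne_zero hcsne) (hmul.trans hc.symm)
  rcases hD.mem g hg with h | h | h | h
  · have hz := key P.q (by rw [h]; simp only [OddPar.L]; ring)
    refine Or.inl ⟨h, hz, hz ▸ card_cent_quot_eq ?_⟩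
    rw [hz, h]
    exact ((P.cop_2q.symm).mul_right P.cop_qn).mul_right P.cop_qm
  · have hz := key (2 * P.n) (by rw [h]; simp only [OddPar.L]; ring)
    refine Or.inr (Or.inr (Or.inl ⟨h, hz, hz ▸ card_cent_quot_eq ?_⟩))
    rw [hz, h]
    exact (P.cop_2q.mul_left P.cop_qn.symm).mul_right (P.cop_2m.mul_left P.cop_nm)
  · have hz := key P.n (by rw [h]; simp only [OddPar.L]; ring)
    refine Or.inr (Or.inr (Or.inr ⟨h, hz, ?_⟩))
    have hd := excess_dvd g
    rw [hi, hz] at hd
    have hd' : (centralizer ({g} : Set G)).relIndex (qc g) ∣ 2 * (P.q * P.m) :=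
      Nat.dvd_of_mul_dvd_mul_left hn0 (hd.trans (dvd_of_eq (by simp only [OddPar.L]; ring)))
    have hco : Nat.Coprime ((centralizer ({g} : Set G)).relIndex (qc g)) (P.q * P.m) := by
      refine Nat.coprime_of_dvd fun r hr hrd hrqm => hr.not_dvd_one ?_
      exact Nat.Coprime.eq_one_of_dvd ((P.cop_qn.symm.mul_right P.cop_nm).coprime_dvd_left
        (hz ▸ (prime_dvd_excess g hr hrd).trans (orderOf_dvd_cz g))) hrqm ▸ dvd_rfl
    rw [card_cent_quot, hz]
    rcases (Nat.dvd_prime Nat.prime_two).mp (hco.dvd_of_dvd_mul_right hd') with e | e <;> rw [e]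
    · exact Or.inl (mul_one _)
    · exact Or.inr (mul_comm _ _)
  · have hz := key P.m (by rw [h]; simp only [OddPar.L]; ring)
    refine Or.inr (Or.inl ⟨h, hz, hz ▸ card_cent_quot_eq ?_⟩)
    rw [hz, h]
    exact ((P.cop_2m.symm).mul_right P.cop_qm.symm).mul_right P.cop_nm.symm

theorem xOdd_quot {P : OddPar} (hD : SizeData G P.sizes) : XOdd P (G ⧸ center G) := by
  have hq := P.seven_le
  refine ⟨index_center_odd P hD, fun x hx => ?_, ?_, ?_, ?_⟩
  · obtain ⟨g, rfl⟩ := QuotientGroup.mk_surjective x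
    rcases quot_cases hD (g := g) (fun h => hx ((QuotientGroup.eq_one_iff g).mpr h)) with
      ⟨-, -, h⟩ | ⟨-, -, h⟩ | ⟨-, -, h⟩ | ⟨-, -, h | h⟩ <;> simp [h]
  · obtain ⟨g, hg⟩ := hD.exists_cs _ P.iso_H.1
    have hgz := hD.not_center P.iso_H.1 hg
    refine ⟨g, quot_ne_one hgz, ?_⟩
    rcases quot_cases hD hgz with ⟨-, -, h⟩ | ⟨e, -⟩ | ⟨e, -⟩ | ⟨e, -⟩
    · exact h
    all_goals rw [hg] at e
    · exact absurd (e ▸ dvd_mul_left _ _ : P.m ∣ 2 * P.q * P.n) P.not_m_dvd_M
    · exact absurd (e.symm ▸ dvd_mul_right _ _ : P.q ∣ 2 * P.n * P.m) P.not_q_dvd_H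
    · exact absurd (e.symm ▸ ⟨2 * P.m, by ring⟩ : P.q ∣ 2 * P.n * P.m) P.not_q_dvd_H
  · obtain ⟨g, hg⟩ := hD.exists_cs _ P.iso_M.1
    have hgz := hD.not_center P.iso_M.1 hg
    refine ⟨g, quot_ne_one hgz, ?_⟩
    rcases quot_cases hD hgz with ⟨e, -⟩ | ⟨-, -, h⟩ | ⟨e, -⟩ | ⟨e, -⟩
    case _ => exact absurd (hg.symm.trans e ▸ dvd_mul_left _ _ : P.m ∣ 2 * P.q * P.n) P.not_m_dvd_M
    case _ => exact h
    all_goals
      rw [hg] at e
      exact absurd (e ▸ dvd_mul_left _ _ : P.m ∣ 2 * P.q * P.n) P.not_m_dvd_M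
  · obtain ⟨g, hg⟩ := hD.exists_cs _ P.mini_I.1
    have hgz := hD.not_center P.mini_I.1 hg
    refine ⟨g, quot_ne_one hgz, ?_⟩
    have hodd : ¬ 2 ∣ P.q * P.m := fun h2 => (Nat.prime_two.dvd_mul.mp h2).elim P.q_odd P.hm
    rcases quot_cases hD hgz with ⟨e, -⟩ | ⟨e, -⟩ | ⟨-, -, h⟩ | ⟨e, -⟩
    case _ => exact absurd ((hg.symm.trans e).symm ▸ ⟨P.n * P.m, by ring⟩ : 2 ∣ P.q * P.m) hodd
    case _ => exact absurd ((hg.symm.trans e).symm ▸ ⟨P.q * P.n, by ring⟩ : 2 ∣ P.q * P.m) hodd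
    case _ => exact h
    case _ => exact absurd ((hg.symm.trans e).symm ▸ ⟨P.q * P.m, by ring⟩ : 2 ∣ P.q * P.m) hodd

/-- Centraliser orders in the quotient, three pairwise coprime factors. -/
theorem tri_quot {x y z : ℕ} (hx1 : 1 < x) (hy1 : 1 < y) (hz1 : 1 < z) (hxy : x.Coprime y)
    (hxz : x.Coprime z) (hyz : y.Coprime z) (hD : SizeData G (triSizes x y z)) {g : G} (hg : g ∉ center G) :
    (cs g = y * z ∧ cz g = x ∧ Nat.card (centralizer ({(g : G ⧸ center G)} : Set (G ⧸ center G))) = x) ∨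
    (cs g = x * z ∧ cz g = y ∧ Nat.card (centralizer ({(g : G ⧸ center G)} : Set (G ⧸ center G))) = y) ∨
    (cs g = x * y ∧ cz g = z ∧ Nat.card (centralizer ({(g : G ⧸ center G)} : Set (G ⧸ center G))) = z) := by
  have hmul := cz_mul g
  rw [index_center_tri hx1 hy1 hz1 hxy hxz hyz hD] at hmul
  have hcsne : cs g ≠ 0 := index_ne_zero_of_finite
  have key : ∀ c : ℕ, c * cs g = x * y * z → cz g = c := fun c hc =>
    Nat.eq_of_mul_eq_mul_right (Nat.pos_of_ne_zero hcsne) (hmul.trans hc.symm)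
  rcases hD.mem g hg with h | h | h
  · have hz := key z (by rw [h]; ring)
    refine Or.inr (Or.inr ⟨h, hz, hz ▸ card_cent_quot_eq ?_⟩)
    rw [hz, h]
    exact hxz.symm.mul_right hyz.symm
  · have hz := key y (by rw [h]; ring)
    refine Or.inr (Or.inl ⟨h, hz, hz ▸ card_cent_quot_eq ?_⟩)
    rw [hz, h]
    exact hxy.symm.mul_right hyz
  · have hz := key x (by rw [h]; ring)
    refine Or.inl ⟨h, hz, hz ▸ card_cent_quot_eq ?_⟩
    rw [hz, h]
    exact hxy.mul_right hxz

end CfsgLib.CsPSL
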