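import Cfsg.Agent.Lib.ClassSizesPSL2.Borel
import Cfsg.Agent.Lib.SLShort.Shrink
import Cfsg.Agent.Lib.PrimeGraphExt
import Cfsg.Agent.S0731
import Cfsg.Agent.S2202

/-!
Recognising the central quotient as `PSL₂(q)`.
-/

set_option autoImplicit false
set_option linter.unusedSectionVars false

namespace CfsgLib.CsPSL

open Subgroup
open CfsgLib.BSW (IsCC mem_of_coprime)

universe u v

variable {X : Type u} [Group X] [Finite X]

theorem XOdd.index_gt {P : OddPar} (h : XOdd P X) {x : X} (hx : x ≠ 1) :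
    P.q < (centralizer ({x} : Set X)).index := by
  have hn := P.hn4
  have hm := P.hm3
  have hq := P.q_pos
  have h7 := P.seven_le
  rcases h.cases x hx with e | e | e | e
  · rw [index_of_card (b := 2 * P.n * P.m) (by rw [h.card_eq]) e]
    show P.n + P.m < 2 * P.n * P.m
    nlinarith
  · rw [index_of_card (b := 2 * P.n * P.q) (by rw [h.card_eq]; ring) e]
    nlinarith
  · rw [index_of_card (b := 2 * P.q * P.m) (by rw [h.card_eq]; ring) e]
    nlinarith
  · rw [index_of_card (b := P.q * P.m) (by rw [h.card_eq]; ring) e]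
    nlinarith

/-- The odd case. -/
theorem XOdd.recognise {P : OddPar} (h : XOdd P X) (hB : HasBorel P X) :
    ∃ (K : Type) (_ : Field K) (_ : Fintype K), Fintype.card K = P.q ∧
      Nonempty (X ≃* Matrix.ProjectiveSpecialLinearGroup (Fin 2) K) := by
  classical
  haveI := Fintype.ofFinite X
  obtain ⟨Q, hCC, hQ, hidx⟩ := hB
  have hord : 2 * Nat.card X = P.q * (P.q + 1) * (P.q - 1) := by rw [h.card_eq, P.two_L]
  have h7 := P.seven_le
  have hbig : ∀ x : X, x ≠ 1 → ∀ M : Subgroup X, M.Normal → x ∈ M → P.q + 1 < Nat.card M := by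
    intro x hx M hM hxM
    have h1 := h.index_gt hx
    rw [← class_ncard] at h1
    have hsub : {y : X | IsConj x y} ⊆ (M : Set X) \ {1} := by
      intro y hy
      obtain ⟨c, rfl⟩ := isConj_iff.mp hy
      exact ⟨hM.conj_mem x hxM c, fun e => hx (conj_eq_one_iff.mp e)⟩
    have h2 := Set.ncard_le_ncard hsub (Set.toFinite _)
    rw [Set.ncard_diff_singleton_of_mem (one_mem M : (1 : X) ∈ (M : Set X)), ← Nat.card_coe_set_eq (M : Set X)] at h2
    simp only [SetLike.coe_sort_coe] at h2
    omega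
  set N := normalizer (Q : Set X) with hN
  have hQN : Q ≤ N := le_normalizer
  have hNcard : 2 * Nat.card N = P.q * (P.q - 1) := by
    have h1 := N.index_mul_card
    rw [hidx] at h1
    refine Nat.eq_of_mul_eq_mul_left (show 0 < P.q + 1 by omega) ?_
    calc (P.q + 1) * (2 * Nat.card N) = 2 * ((P.q + 1) * Nat.card N) := by ring
      _ = _ := by rw [h1, hord]; ring
  have hco : (Nat.card Q).Coprime Q.index := by
    have h1 := Q.index_mul_card
    rw [hQ] at h1
    rw [← h1] at hord
    have h2 : 2 * Q.index = (P.q + 1) * (P.q - 1) :=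
      Nat.eq_of_mul_eq_mul_left P.q_pos (by rw [← mul_assoc, ← mul_assoc, mul_comm P.q 2, ← hord]; ring)
    have hc : Nat.Coprime P.q ((P.q + 1) * (P.q - 1)) := by
      refine Nat.Coprime.mul_right (Nat.coprime_self_add_right.mpr (Nat.coprime_one_right _)) ?_
      obtain ⟨r, hr⟩ : ∃ r, P.q = r + 1 := ⟨P.q - 1, by omega⟩
      rw [hr, Nat.add_sub_cancel]
      exact Nat.coprime_self_add_left.mpr (Nat.coprime_one_left _)
    rw [hQ]
    exact hc.coprime_dvd_right ⟨2, by rw [← h2]; ring⟩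
  set x₀ : X ⧸ N := ((1 : X) : X ⧸ N) with hx₀
  have hfix : ∀ (x g : X), x • ((g : X ⧸ N)) = (g : X ⧸ N) ↔ g⁻¹ * x * g ∈ N := by
    intro x g
    rw [MulAction.Quotient.smul_coe, smul_eq_mul, QuotientGroup.eq, ← inv_mem_iff]
    simp [mul_assoc]
  have hfix₀ : ∀ x : X, x • x₀ = x₀ ↔ x ∈ N := fun x => by rw [hx₀, hfix]; simp
  have hne₀ : ∀ g : X, (g : X ⧸ N) ≠ x₀ ↔ g ∉ N := fun g => by
    rw [ne_eq, hx₀, QuotientGroup.eq, mul_one, inv_mem_iff]
  have hconjN : ∀ u ∈ Q, u ≠ 1 → ∀ g : X, g⁻¹ * u * g ∈ N → g ∈ N := by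
    intro u hu hu1 g hw
    have hwQ : g⁻¹ * u * g ∈ Q := by
      refine mem_of_coprime Q hw (Nat.Coprime.coprime_dvd_left ?_ hco)
      have : orderOf (g⁻¹ * u * g) = orderOf u := by
        have := CfsgLib.Involutions.orderOf_conj g⁻¹ u
        rwa [inv_inv] at this
      rw [this]
      exact Subgroup.orderOf_dvd_natCard _ hu
    exact inv_mem_iff.mp (hCC.mem_normalizer hu hu1 (by rwa [inv_inv]))
  have hsemi : ∀ u ∈ Q, ∀ y : X ⧸ N, y ≠ x₀ → u • y = y → u = 1 := by
    intro u hu y hy hfy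
    obtain ⟨g, rfl⟩ := QuotientGroup.mk_surjective y
    by_contra hu1
    exact (hne₀ g).mp hy (hconjN u hu hu1 g ((hfix u g).mp hfy))
  have hreg : ∀ y z : X ⧸ N, y ≠ x₀ → z ≠ x₀ → ∃! u : Q, (u : X) • y = z := by
    intro y z hy hz
    have hmem : ∀ u : Q, (u : X) • y ≠ x₀ := fun u e => hy (by
      rw [← inv_smul_smul (u : X) y, e]
      exact (hfix₀ _).mpr (hQN (inv_mem u.2)))
    let f : Q → {w : X ⧸ N // w ≠ x₀} := fun u => ⟨(u : X) • y, hmem u⟩
    have hinj : Function.Injective f := by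
      intro u v e
      have e' : (u : X) • y = (v : X) • y := congrArg Subtype.val e
      have := hsemi ((v : X)⁻¹ * u) (mul_mem (inv_mem v.2) u.2) y hy (by rw [mul_smul, e', inv_smul_smul])
      exact Subtype.ext (inv_mul_eq_one.mp this).symm
    have hsurj : Function.Surjective f := by
      have hc : Nat.card {w : X ⧸ N // w ≠ x₀} = Nat.card Q := by
        rw [Nat.card_eq_fintype_card, Fintype.card_subtype_compl, Fintype.card_subtype_eq,
          ← Nat.card_eq_fintype_card]
        show N.index - 1 = _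
        rw [hidx, hQ]
        omega
      exact ((Nat.bijective_iff_injective_and_card f).mpr ⟨hinj, hc.symm⟩).2
    obtain ⟨u, hu⟩ := hsurj ⟨z, hz⟩
    refine ⟨u, congrArg Subtype.val hu, fun v hv => hinj ?_⟩
    rw [hu]
    exact Subtype.ext hv
  have hNne : N ≠ ⊤ := fun e => by
    rw [e, index_top] at hidx
    omega
  obtain ⟨u₀, hu₀, hu₀1⟩ := Q.bot_or_exists_ne_one.resolve_left (fun e => by rw [e, Subgroup.card_bot] at hQ; omega)
  have hfaith : FaithfulSMul X (X ⧸ N) := by
    have hcore : N.normalCore = ⊥ := by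
      haveI := normalCore_normal N
      have hKQ : ∀ v ∈ N.normalCore, v ∈ Q → v = 1 := by
        intro v hv hvQ
        by_contra hv1
        refine hNne ((eq_top_iff' N).mpr fun g => hconjN v hvQ hv1 g (N.normalCore_le ?_))
        have := (normalCore_normal N).conj_mem v hv g⁻¹
        rwa [inv_inv] at this
      rw [Subgroup.eq_bot_iff_forall]
      intro k hk
      refine hKQ k hk ?_
      rw [← hCC u₀ hu₀ hu₀1, mem_centralizer_singleton_iff]
      have h1 : k * u₀ * k⁻¹ * u₀⁻¹ = 1 := by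
        refine hKQ _ ?_ (mul_mem ((mem_normalizer_iff.mp (N.normalCore_le hk) u₀).mp hu₀) (inv_mem hu₀))
        rw [show k * u₀ * k⁻¹ * u₀⁻¹ = k * (u₀ * k⁻¹ * u₀⁻¹) by group]
        exact mul_mem hk ((normalCore_normal N).conj_mem _ (inv_mem hk) u₀)
      exact mul_inv_eq_iff_eq_mul.mp (mul_inv_eq_one.mp h1)
    have hker : (MulAction.toPermHom X (X ⧸ N)).ker = ⊥ := by rw [← Subgroup.normalCore_eq_ker, hcore]
    exact ⟨fun {a b} h => (MonoidHom.ker_eq_bot_iff _).mp hker (Equiv.ext h)⟩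
  obtain ⟨g₀, hg₀⟩ : ∃ g : X, g ∉ N := by
    by_contra hall
    push Not at hall
    exact hNne ((Subgroup.eq_top_iff' N).mpr hall)
  set y₀ : X ⧸ N := (g₀ : X ⧸ N) with hy₀
  have hy₀ne : y₀ ≠ x₀ := (hne₀ g₀).mpr hg₀
  have hmove : ∀ a b : X ⧸ N, a ≠ b → ∃ g : X, g • a = x₀ ∧ g • b = y₀ := by
    intro a b hab
    obtain ⟨g, hg⟩ := MulAction.exists_smul_eq X a x₀
    have hgb : g • b ≠ x₀ := fun e => hab (smul_left_cancel g (hg.trans e.symm))
    obtain ⟨u, hu, -⟩ := hreg (g • b) y₀ hgb hy₀ne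
    exact ⟨(u : X) * g, by rw [mul_smul, hg, (hfix₀ _).mpr (hQN u.2)], by rw [mul_smul, hu]⟩
  have h2 : MulAction.IsMultiplyPretransitive X (X ⧸ N) 2 := by
    rw [MulAction.is_two_pretransitive_iff]
    intro a b c d hab hcd
    obtain ⟨g, hg1, hg2⟩ := hmove a b hab
    obtain ⟨h', hh1, hh2⟩ := hmove c d hcd
    refine ⟨h'⁻¹ * g, ?_, ?_⟩
    · rw [mul_smul, hg1, ← hh1, inv_smul_smul]
    · rw [mul_smul, hg2, ← hh2, inv_smul_smul]
  have h3 : ∀ g : X, ∀ a b c : X ⧸ N, a ≠ b → b ≠ c → a ≠ c → g • a = a → g • b = b → g • c = c → g = 1 := by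
    intro g a b c hab hbc hac ha hb hc
    obtain ⟨h', hh⟩ := MulAction.exists_smul_eq X a x₀
    set k := h' * g * h'⁻¹ with hk
    have hkfix : ∀ w : X ⧸ N, g • w = w → k • (h' • w) = h' • w := fun w hw => by
      rw [hk, mul_smul, mul_smul, inv_smul_smul, hw]
    have hy : h' • b ≠ x₀ := fun e => hab (smul_left_cancel h' (hh.trans e.symm))
    have hz : h' • c ≠ x₀ := fun e => hac (smul_left_cancel h' (hh.trans e.symm))
    have hkN : k ∈ N := (hfix₀ k).mp (by rw [← hh]; exact hkfix a ha)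
    obtain ⟨u, hu, -⟩ := hreg (h' • b) (h' • c) hy hz
    have hu1 : (u : X) ≠ 1 := fun e => hbc (smul_left_cancel h' (by rwa [e, one_smul] at hu))
    have hwQ : (u : X)⁻¹ * (k * u * k⁻¹) ∈ Q :=
      mul_mem (inv_mem u.2) ((Subgroup.mem_normalizer_iff.mp hkN u).mp u.2)
    have hw := hsemi _ hwQ (h' • b) hy (by
      have e1 : k⁻¹ • h' • b = h' • b := by
        have := hkfix b hb
        nth_rewrite 1 [← this]
        rw [inv_smul_smul]
      rw [mul_smul, mul_smul, mul_smul, e1, hu, hkfix c hc, ← hu, inv_smul_smul])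
    have hcomm : k * u = u * k := by
      have := inv_mul_eq_one.mp hw
      exact (mul_inv_eq_iff_eq_mul.mp this.symm)
    have hkQ : k ∈ Q := by
      rw [← hCC u u.2 hu1]
      exact Subgroup.mem_centralizer_singleton_iff.mpr hcomm
    have hk1 := hsemi k hkQ (h' • b) hy (hkfix b hb)
    rw [hk] at hk1
    exact conj_eq_one_iff.mp hk1
  have hex : ∃ g : X, g ≠ 1 ∧ ∃ a b : X ⧸ N, a ≠ b ∧ g • a = a ∧ g • b = b := by
    by_contra hno
    push Not at hno
    have hmem : ∀ n : N, (n : X) • y₀ ≠ x₀ := fun n e => hy₀ne (by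
      rw [← inv_smul_smul (n : X) y₀, e]
      exact (hfix₀ _).mpr (inv_mem n.2))
    have hinj : Function.Injective (fun n : N => (⟨(n : X) • y₀, hmem n⟩ : {w : X ⧸ N // w ≠ x₀})) := by
      intro n m e
      have e' : (n : X) • y₀ = (m : X) • y₀ := congrArg Subtype.val e
      by_contra hne
      refine hno ((m : X)⁻¹ * n) (fun e1 => hne (Subtype.ext (inv_mul_eq_one.mp e1).symm)) x₀ y₀ (Ne.symm hy₀ne)
        ((hfix₀ _).mpr (mul_mem (inv_mem m.2) n.2)) ?_
      rw [mul_smul, e', inv_smul_smul]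
    have hc := Nat.card_le_card_of_injective _ hinj
    rw [Nat.card_eq_fintype_card (α := {w : X ⧸ N // w ≠ x₀}), Fintype.card_subtype_compl,
      Fintype.card_subtype_eq, ← Nat.card_eq_fintype_card (α := X ⧸ N)] at hc
    have hi : Nat.card (X ⧸ N) = P.q + 1 := hidx
    rw [hi] at hc
    have := Nat.mul_le_mul_left P.q (show 6 ≤ P.q - 1 by omega)
    omega
  have hnr : ∀ M : Subgroup X, M.Normal → MulAction.IsPretransitive M (X ⧸ N) →
      ∃ a : X ⧸ N, MulAction.stabilizer M a ≠ ⊥ := by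
    intro M hM htr
    by_contra hno
    push Not at hno
    have hMcard : Nat.card M = P.q + 1 := by
      have h1 := MulAction.index_stabilizer_of_transitive M x₀
      rw [hno x₀, index_bot] at h1
      exact h1.trans hidx
    obtain ⟨m, hm, hm1⟩ := M.bot_or_exists_ne_one.resolve_left (fun e => by rw [e, Subgroup.card_bot] at hMcard; omega)
    have := hbig m hm1 M hM hm
    omega
  have hZ : Cfsg.IsZassenhausGroup X (X ⧸ N) := ⟨hfaith, h2, h3, hex, hnr⟩
  have hstab : MulAction.stabilizer X x₀ = N := by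
    ext g
    exact MulAction.mem_stabilizer_iff.trans (hfix₀ g)
  have hQab : IsMulCommutative Q := ⟨⟨fun a b => by
    by_cases hb : (b : X) = 1
    · exact Subtype.ext (by simp [hb])
    · exact Subtype.ext (Subgroup.mem_centralizer_singleton_iff.mp ((hCC b b.2 hb).symm ▸ a.2))⟩⟩
  have hQn : (Q.subgroupOf (MulAction.stabilizer X x₀)).Normal := by
    rw [hstab]
    infer_instance
  rcases Cfsg.Agent.S0731.result hZ x₀ Q (hQN.trans hstab.ge) hQn hQab hreg with ⟨h3t, h3s⟩ | ⟨K, iK, iF, hchar, hiso⟩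
  · exfalso
    have hcard : Fintype.card (X ⧸ N) = P.q + 1 := by rw [← Nat.card_eq_fintype_card]; exact hidx
    have hq3 : 3 ≤ P.q + 1 := by omega
    let t : Fin 3 ↪ X ⧸ N :=
      ((Fin.castLEEmb (hcard.symm ▸ hq3 : 3 ≤ Fintype.card (X ⧸ N))).trans (Fintype.equivFin (X ⧸ N)).symm.toEmbedding)
    haveI := h3t
    have hc : (MulAction.stabilizer X t).index = Nat.card (Fin 3 ↪ X ⧸ N) :=
      MulAction.index_stabilizer_of_transitive X t
    rw [h3s t, Subgroup.index_bot, Nat.card_eq_fintype_card (α := Fin 3 ↪ X ⧸ N), Fintype.card_embedding_eq,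
      Fintype.card_fin, hcard] at hc
    simp only [Nat.descFactorial_succ, Nat.descFactorial_zero, Nat.sub_zero, mul_one] at hc
    rw [show P.q + 1 - 1 = P.q by omega, show P.q + 1 - 2 = P.q - 1 by omega] at hc
    have hpos : 0 < P.q * (P.q + 1) * (P.q - 1) := by
      rw [← hord]
      exact Nat.mul_pos two_pos Nat.card_pos
    rw [hc] at hord
    have : (P.q - 1) * (P.q * (P.q + 1)) = P.q * (P.q + 1) * (P.q - 1) := by ring
    omega
  · obtain ⟨e⟩ := hiso
    refine ⟨K, iK, iF, ?_, ⟨e⟩⟩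
    have hodd := FiniteField.odd_card_of_char_ne_two hchar
    have hc := CfsgLib.DicksonFull.card_psl (F := K)
    rw [Nat.gcd_eq_left (show 2 ∣ Fintype.card K - 1 by omega), ← Nat.card_congr e.toEquiv, hord] at hc
    obtain ⟨r, hr⟩ : ∃ r, P.q = r + 1 := ⟨P.q - 1, by omega⟩
    obtain ⟨s, hs⟩ : ∃ s, Fintype.card K = s + 1 := ⟨Fintype.card K - 1, by omega⟩
    have hsq : (s + 1) ^ 2 - 1 = (s + 2) * s := Nat.sub_eq_of_eq_add (by ring)
    rw [hr, hs, hsq, Nat.add_sub_cancel] at hc
    rw [hs, hr]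
    rcases Nat.lt_trichotomy s r with hlt | e' | hgt
    · exfalso
      have h1 : (s + 1) * (s + 2) < (r + 1) * (r + 1 + 1) :=
        Nat.mul_lt_mul_of_lt_of_le (by omega) (by omega) (by omega)
      have h2 := Nat.mul_lt_mul_of_lt_of_le h1 hlt.le (by omega)
      rw [← mul_assoc] at hc
      omega
    · rw [e']
    · exfalso
      have h1 : (r + 1) * (r + 1 + 1) < (s + 1) * (s + 2) :=
        Nat.mul_lt_mul_of_lt_of_le (by omega) (by omega) (by omega)
      have h2 := Nat.mul_lt_mul_of_lt_of_le h1 hgt.le (by omega)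
      rw [← mul_assoc] at hc
      omega

/-- The even case. -/
theorem XEven.recognise {q f : ℕ} (hf : q = 2 ^ f) (h4 : 4 ≤ q) (h : XEven q X) :
    ∃ (K : Type) (_ : Field K) (_ : Fintype K), CharP K 2 ∧ Fintype.card K = q ∧
      Nonempty (X ≃* Matrix.SpecialLinearGroup (Fin 2) K) := by
  classical
  haveI : Fact (Nat.Prime 2) := ⟨Nat.prime_two⟩
  have hq2 : 2 ∣ q := hf ▸ dvd_pow_self 2 (fun e => by rw [e, pow_zero] at hf; omega)
  have heven : Even (Nat.card X) := even_iff_two_dvd.mpr (by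
    rw [h.card_eq]
    exact dvd_mul_of_dvd_left (dvd_mul_of_dvd_left hq2 _) _)
  have htwo : ∀ x : X, x ≠ 1 → 2 ∣ Nat.card (centralizer ({x} : Set X)) →
      Nat.card (centralizer ({x} : Set X)) = q := by
    intro x hx hd
    rcases h.cases x hx with e | e | e
    · exact e
    all_goals (rw [e] at hd; omega)
  obtain ⟨t, ht⟩ := exists_prime_orderOf_dvd_card' (G := X) 2 (even_iff_two_dvd.mp heven)
  have hinvc : ∀ x : X, orderOf x = 2 → Nat.card (centralizer ({x} : Set X)) = q := fun x hx =>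
    htwo x (fun e => by simp [e] at hx)
      (hx ▸ Subgroup.orderOf_dvd_natCard _ (mem_centralizer_singleton_iff.mpr rfl))
  have ht1 : t ≠ 1 := fun e => by simp [e] at ht
  have hclass : {y : X | IsConj t y} = cOrd X {q} := by
    refine Set.eq_of_subset_of_ncard_le ?_ ?_ (Set.toFinite _)
    · intro y hy
      exact cOrd_invariant _ t ⟨ht1, hinvc t ht⟩ y hy
    · rw [h.count h4, class_ncard]
      exact (index_of_card (by rw [h.card_eq]; ring) (hinvc t ht)).ge
  have hinv : ∀ y : X, y ≠ 1 → Nat.card (centralizer ({y} : Set X)) = q → orderOf y = 2 := by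
    intro y hy hc
    have hy' : y ∈ cOrd X {q} := ⟨hy, hc⟩
    rw [← hclass] at hy'
    obtain ⟨c, rfl⟩ := isConj_iff.mp hy'
    exact (CfsgLib.Involutions.orderOf_conj c t).trans ht
  have hab : ∀ x : X, orderOf x = 2 → IsMulCommutative ↥(centralizer ({x} : Set X)) := by
    intro x hx
    have hsq : ∀ y : centralizer ({x} : Set X), y * y = 1 := by
      intro y
      by_cases hy : (y : X) = 1
      · exact Subtype.ext (by simp [hy])
      have hd : orderOf (y : X) ∣ q := hinvc x hx ▸ Subgroup.orderOf_dvd_natCard _ y.2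
      obtain ⟨i, -, hi⟩ := (Nat.dvd_prime_pow Nat.prime_two).mp (hf ▸ hd)
      have hi0 : i ≠ 0 := fun e => hy (orderOf_eq_one_iff.mp (by rw [hi, e, pow_zero]))
      have h2 : 2 ∣ Nat.card (centralizer ({(y : X)} : Set X)) :=
        (hi ▸ dvd_pow_self 2 hi0 : 2 ∣ orderOf (y : X)).trans
          (Subgroup.orderOf_dvd_natCard _ (mem_centralizer_singleton_iff.mpr rfl))
      have ho := hinv _ hy (htwo _ hy h2)
      refine Subtype.ext ?_
      show (y : X) * (y : X) = 1
      rw [← sq, ← ho, pow_orderOf_eq_one]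
    refine ⟨⟨fun a b => ?_⟩⟩
    calc a * b = (a * b)⁻¹ := (inv_eq_of_mul_eq_one_right (hsq (a * b))).symm
      _ = b⁻¹ * a⁻¹ := mul_inv_rev a b
      _ = b * a := by rw [inv_eq_of_mul_eq_one_right (hsq a), inv_eq_of_mul_eq_one_right (hsq b)]
  let S : Sylow 2 X := default
  have hS : Nat.card S = q := by
    rw [S.card_eq_multiplicity, h.card_eq, hf, mul_assoc,
      Nat.factorization_mul (Nat.two_pow_pos f).ne' (Nat.mul_pos (by omega) (by omega)).ne', Finsupp.add_apply,
      Nat.prime_two.factorization_pow, Finsupp.single_eq_same, Nat.factorization_eq_zero_of_not_dvd, add_zero]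
    rw [← hf]
    intro hd
    rcases Nat.prime_two.dvd_mul.mp hd with hd | hd <;> omega
  rcases Cfsg.Agent.S2202.result heven hab with hcyc | hnormal | ⟨K, iK, iF, A, iA, iAf, hchar, -, ⟨e⟩⟩
  · exfalso
    haveI := hcyc S
    obtain ⟨g, hg⟩ := IsCyclic.exists_ofOrder_eq_natCard (α := S)
    have ho : orderOf (g : X) = q := by rw [Subgroup.orderOf_coe, hg, hS]
    have hg1 : (g : X) ≠ 1 := fun e => by rw [e, orderOf_one] at ho; omega
    have h2 := hinv _ hg1 (htwo _ hg1
      ((ho.symm ▸ hq2 : 2 ∣ orderOf (g : X)).trans (Subgroup.orderOf_dvd_natCard _ (mem_centralizer_singleton_iff.mpr rfl))))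
    omega
  · exfalso
    haveI := hnormal S
    obtain ⟨c, hc⟩ := exists_conj_mem (C := (S : Subgroup X)) Nat.prime_two S.not_dvd_index
      (v := t) (k := 1) (by rw [ht, pow_one])
    have hsub : cOrd X {q} ⊆ (S : Set X) := by
      rw [← hclass]
      intro y hy
      obtain ⟨d, rfl⟩ := isConj_iff.mp hy
      have := (hnormal S).conj_mem _ hc (d * c⁻¹)
      rwa [show d * c⁻¹ * (c * t * c⁻¹) * (d * c⁻¹)⁻¹ = d * t * d⁻¹ by group] at this
    have h1 := Set.ncard_le_ncard hsub (Set.toFinite _)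
    rw [h.count h4, ← Nat.card_coe_set_eq (S : Set X)] at h1
    have h2 : (q + 1) * (q - 1) ≤ q := h1.trans hS.le
    have h3 := Nat.le_mul_of_pos_right (q + 1) (show 0 < q - 1 by omega)
    omega
  · haveI := hchar
    haveI : Subsingleton A := by
      refine ⟨fun a b => ?_⟩
      have key : ∀ a : A, a = 1 := by
        intro a
        by_contra ha
        set z := e.symm (1, a) with hz
        have hz1 : z ≠ 1 := fun e1 => ha (by
          have := congrArg e e1
          rw [hz, e.apply_symm_apply, map_one] at this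
          exact congrArg Prod.snd this)
        have htop : centralizer ({z} : Set X) = ⊤ := by
          rw [eq_top_iff']
          intro y
          rw [mem_centralizer_singleton_iff]
          refine e.injective ?_
          rw [map_mul, map_mul, hz, e.apply_symm_apply]
          exact Prod.ext (by simp) (mul_comm _ _)
        have hc := h.cases z hz1
        rw [htop, card_top, h.card_eq] at hc
        have h1 : 1 < q - 1 := by omega
        have h5 : q < q * (q + 1) := by nlinarith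
        have h6 : q * (q + 1) < q * (q + 1) * (q - 1) := lt_mul_of_one_lt_right (by positivity) h1
        have h7 : q + 1 ≤ q * (q + 1) := Nat.le_mul_of_pos_left _ (by omega)
        omega
      rw [key a, key b]
    haveI : Unique A := uniqueOfSubsingleton 1
    refine ⟨K, iK, iF, hchar, ?_, ⟨e.trans MulEquiv.prodUnique⟩⟩
    have hc := Nat.card_congr (e.trans MulEquiv.prodUnique).toEquiv
    rw [h.card_eq, CfsgLib.SLCard.card_SL_two] at hc
    obtain ⟨r, hr⟩ : ∃ r, q = r + 1 := ⟨q - 1, by omega⟩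
    obtain ⟨s, hs⟩ : ∃ s, Fintype.card K = s + 1 := ⟨Fintype.card K - 1, by
      have := Fintype.card_pos (α := K); omega⟩
    have hsq : (s + 1) ^ 2 - 1 = (s + 2) * s := Nat.sub_eq_of_eq_add (by ring)
    rw [hr, hs, hsq, Nat.add_sub_cancel, ← mul_assoc] at hc
    rw [hs, hr]
    rcases Nat.lt_trichotomy s r with hlt | e' | hgt
    · exfalso
      have h1 : (s + 1) * (s + 2) < (r + 1) * (r + 1 + 1) :=
        Nat.mul_lt_mul_of_lt_of_le (by omega) (by omega) (by omega)
      have h2 := Nat.mul_lt_mul_of_lt_of_le h1 hlt.le (by omega)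
      omega
    · rw [e']
    · exfalso
      have h1 : (r + 1) * (r + 1 + 1) < (s + 1) * (s + 2) :=
        Nat.mul_lt_mul_of_lt_of_le (by omega) (by omega) (by omega)
      have h2 := Nat.mul_lt_mul_of_lt_of_le h1 hgt.le (by omega)
      omega

end CfsgLib.CsPSL
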