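import Cfsg.Agent.Lib.DicksonFull.Subgroups
import Cfsg.Agent.Lib.PSL2Max.Tori

/-!
Centralisers and class sizes in `PSL₂(q)`.
-/

set_option autoImplicit false
set_option linter.style.haveILetI false

namespace CfsgLib.CsPSL

open Subgroup CfsgLib.DicksonFull

/-- The parameters of `PSL₂(q)`, `q = n + m` odd, `n` even, `m` odd, `|n - m| = 1`. -/
structure OddPar where
  p : ℕ
  f : ℕ
  n : ℕ
  m : ℕ
  hp : p.Prime
  hp2 : p ≠ 2
  hf : f ≠ 0
  hq : n + m = p ^ f
  hn : 2 ∣ n
  hm : ¬ 2 ∣ m
  hadj : n = m + 1 ∨ m = n + 1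
  hn4 : 4 ≤ n
  hm3 : 3 ≤ m

/-- The field order. -/
abbrev OddPar.q (P : OddPar) : ℕ := P.n + P.m

/-- The group order. -/
abbrev OddPar.L (P : OddPar) : ℕ := 2 * P.n * P.m * P.q

/-- The non-trivial class sizes. -/
def OddPar.sizes (P : OddPar) : Set ℕ :=
  {2 * P.n * P.m, P.q * P.m, 2 * P.q * P.m, 2 * P.q * P.n}

variable {F : Type*} [Field F] [Fintype F] (p : ℕ) [Fact p.Prime] [CharP F p]

local notation "PSL" => Matrix.ProjectiveSpecialLinearGroup (Fin 2) F
local notation "q" => Fintype.card F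

/-- The centraliser of a non-identity element. -/
theorem cent_cases (h4 : 4 ≤ q) {x : PSL} (hx : x ≠ 1) :
    (orderOf x = p ∧ Nat.card (centralizer ({x} : Set PSL)) = q ∧
      ∀ y ∈ centralizer ({x} : Set PSL), ∀ z ∈ centralizer ({x} : Set PSL), Commute y z) ∨
    (SS p x ∧ ∃ k, (Nat.gcd 2 (q - 1) * k = q + 1 ∨ Nat.gcd 2 (q - 1) * k = q - 1) ∧
      ((x * x ≠ 1 ∧ Nat.card (centralizer ({x} : Set PSL)) = k ∧
          ∀ y ∈ centralizer ({x} : Set PSL), ∀ z ∈ centralizer ({x} : Set PSL), Commute y z) ∨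
        (x * x = 1 ∧ Nat.card (centralizer ({x} : Set PSL)) = 2 * k ∧ 2 ∣ k ∧
          ∃ (T : Subgroup PSL), IsCyclic T ∧ x ∈ T ∧ T ≤ centralizer ({x} : Set PSL) ∧ Nat.card T = k ∧
            ∀ g ∈ centralizer ({x} : Set PSL), g ∉ T → ∀ y ∈ T, g * y * g⁻¹ = y⁻¹))) := by
  classical
  rcases (psl p).order_cases x hx with hs | hp
  · refine Or.inr ⟨hs, ?_⟩
    set T := (psl p).T x with hT
    obtain ⟨k, g, hk, hTk, hN2, -, -, -, -⟩ := PSL2Max.torus_data p h4 hs
    refine ⟨k, hk, ?_⟩
    have hTC : T ≤ centralizer ({x} : Set PSL) := fun y hy =>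
      mem_centralizer_singleton_iff.mpr (tor_comm (A := psl p) hs hy ((psl p).mem_T x hs))
    have hout : ∀ y ∈ centralizer ({x} : Set PSL), y ∉ T → ∀ z ∈ T, y * z * y⁻¹ = z⁻¹ := fun y hy hyT =>
      ((psl p).T_norm x y hs (by
        rw [mem_centralizer_singleton_iff.mp hy, mul_inv_cancel_right]; exact (psl p).mem_T x hs) hyT).1
    by_cases hxx : x * x = 1
    · refine Or.inr ⟨hxx, ?_, ?_, T, (psl p).T_cyclic x hs, (psl p).mem_T x hs, hTC, hTk, hout⟩
      · rw [← hN2]
        refine congrArg (fun S : Subgroup PSL => Nat.card S) (SetLike.ext fun y => ?_)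
        constructor
        · intro hy
          refine mem_norm hs ?_
          rw [mem_centralizer_singleton_iff.mp hy, mul_inv_cancel_right]
          exact (psl p).mem_T x hs
        · intro hy
          by_cases hyT : y ∈ T
          · exact hTC hyT
          have h := ((psl p).T_norm x y hs ((mem_norm_iff hs).mp hy) hyT).1 x ((psl p).mem_T x hs)
          rw [inv_eq_of_mul_eq_one_right hxx, mul_inv_eq_iff_eq_mul] at h
          exact mem_centralizer_singleton_iff.mpr h
      · rw [← hTk]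
        have := Subgroup.orderOf_dvd_natCard _ ((psl p).mem_T x hs)
        rwa [orderOf_eq_prime (by rw [sq]; exact hxx) hs.1] at this
    · have hCT : centralizer ({x} : Set PSL) = T := le_antisymm (fun y hy => by
        by_contra hyT
        have h := hout y hy hyT x ((psl p).mem_T x hs)
        rw [mem_centralizer_singleton_iff.mp hy, mul_inv_cancel_right] at h
        exact hxx (by nth_rw 2 [h]; exact mul_inv_cancel x)) hTC
      refine Or.inl ⟨hxx, by rw [hCT]; exact hTk, fun y hy z hz => ?_⟩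
      rw [hCT] at hy hz
      exact tor_comm (A := psl p) hs hy hz
  · refine Or.inl ⟨hp, card_cent p hp, fun y hy z hz => ?_⟩
    exact ((psl p).u_cen x y z hp (mem_centralizer_singleton_iff.mp hy) (mem_centralizer_singleton_iff.mp hz)).1

theorem index_eq {X : Type*} [Group X] [Finite X] {H : Subgroup X} {a b : ℕ} (ha : Nat.card H = a)
    (h : b * a = Nat.card X) : H.index = b := by
  have h1 := H.card_mul_index
  rw [ha, ← h, mul_comm b a] at h1
  exact Nat.eq_of_mul_eq_mul_left (ha ▸ Nat.card_pos) h1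

theorem exists_par (hodd : ¬ 2 ∣ q) (h7 : 7 ≤ q) :
    ∃ P : OddPar, P.p = p ∧ P.q = q ∧ Nat.card PSL = P.L := by
  obtain ⟨f, hp, hq⟩ := FiniteField.card F p
  obtain ⟨j, hj⟩ : ∃ j, q = 2 * j + 1 := ⟨q / 2, by omega⟩
  have hg : Nat.gcd 2 (q - 1) = 2 := Nat.gcd_eq_left ⟨j, by omega⟩
  have hc := card_psl (F := F)
  rw [hg] at hc
  have hp2 : p ≠ 2 := fun e => hodd (by rw [hq, e]; exact dvd_pow_self 2 f.ne_zero)
  have hc' : Nat.card PSL = 2 * j * (j + 1) * q := by
    have h1 : q ^ 2 - 1 = (q + 1) * (q - 1) := by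
      have := Nat.sq_sub_sq q 1
      simpa using this
    rw [h1, show q + 1 = 2 * (j + 1) by omega, show q - 1 = 2 * j by omega] at hc
    have : 2 * Nat.card PSL = 2 * (2 * j * (j + 1) * q) := by rw [hc]; ring
    omega
  rcases Nat.even_or_odd j with he | ho
  · obtain ⟨c, hc2⟩ := he
    refine ⟨⟨p, f, j, j + 1, hp, hp2, f.ne_zero, by omega, by omega, by omega, Or.inr rfl, by omega, by omega⟩, rfl,
      by show j + (j + 1) = q; omega, ?_⟩
    rw [hc']
    show _ = 2 * j * (j + 1) * (j + (j + 1))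
    rw [show j + (j + 1) = q by omega]
  · obtain ⟨c, hc2⟩ := ho
    refine ⟨⟨p, f, j + 1, j, hp, hp2, f.ne_zero, by omega, by omega, by omega, Or.inl rfl, by omega, by omega⟩, rfl,
      by show j + 1 + j = q; omega, ?_⟩
    rw [hc']
    show _ = 2 * (j + 1) * j * (j + 1 + j)
    rw [show j + 1 + j = q by omega]
    ring

/-- The centraliser orders in odd characteristic. -/
theorem odd_cases (hodd : ¬ 2 ∣ q) (P : OddPar) (hPq : P.q = q) {x : PSL} (hx : x ≠ 1) :
    (orderOf x = p ∧ Nat.card (centralizer ({x} : Set PSL)) = P.q) ∨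
    (x * x ≠ 1 ∧ (Nat.card (centralizer ({x} : Set PSL)) = P.n ∨ Nat.card (centralizer ({x} : Set PSL)) = P.m)) ∨
    (x * x = 1 ∧ Nat.card (centralizer ({x} : Set PSL)) = 2 * P.n) := by
  have h4 : 4 ≤ q := by have := P.hn4; have : P.n + P.m = q := hPq; omega
  obtain ⟨j, hj⟩ : ∃ j, q = 2 * j + 1 := ⟨q / 2, by omega⟩
  have hg : Nat.gcd 2 (q - 1) = 2 := Nat.gcd_eq_left ⟨j, by omega⟩
  have hnm : P.n + P.m = q := hPq
  have hn := P.hn
  have hm := P.hm
  rcases cent_cases p h4 hx with ⟨h1, h2, -⟩ | ⟨-, k, hk, h⟩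
  · exact Or.inl ⟨h1, h2.trans hPq.symm⟩
  · rw [hg] at hk
    have hk' : k = P.n ∨ k = P.m := by
      rcases hk with e1 | e1 <;> rcases P.hadj with e | e <;>
        first | exact Or.inl (by omega) | exact Or.inr (by omega)
    rcases h with ⟨h1, h2, -⟩ | ⟨h1, h2, h3, -⟩
    · exact Or.inr (Or.inl ⟨h1, by rw [h2]; exact hk'⟩)
    · rcases hk' with rfl | rfl
      · exact Or.inr (Or.inr ⟨h1, h2⟩)
      · exact absurd h3 hm

/-- The class sizes of `PSL₂(q)`, `q` odd. -/
theorem odd_range (hodd : ¬ 2 ∣ q) (P : OddPar) (hPp : P.p = p) (hPq : P.q = q) (hPL : Nat.card PSL = P.L) :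
    Set.range (fun g : PSL => (centralizer ({g} : Set PSL)).index) = insert 1 P.sizes := by
  classical
  have hnm : P.n + P.m = q := hPq
  have hn0 : 0 < P.n := by have := P.hn4; omega
  have hm0 : 0 < P.m := by have := P.hm3; omega
  have iq : ∀ {x : PSL}, Nat.card (centralizer ({x} : Set PSL)) = P.q →
      (centralizer ({x} : Set PSL)).index = 2 * P.n * P.m := fun h => index_eq h (by rw [hPL])
  have i2 : ∀ {x : PSL}, Nat.card (centralizer ({x} : Set PSL)) = 2 * P.n →
      (centralizer ({x} : Set PSL)).index = P.q * P.m := fun h => index_eq h (by rw [hPL]; ring)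
  have in' : ∀ {x : PSL}, Nat.card (centralizer ({x} : Set PSL)) = P.n →
      (centralizer ({x} : Set PSL)).index = 2 * P.q * P.m := fun h => index_eq h (by rw [hPL]; ring)
  have im : ∀ {x : PSL}, Nat.card (centralizer ({x} : Set PSL)) = P.m →
      (centralizer ({x} : Set PSL)).index = 2 * P.q * P.n := fun h => index_eq h (by rw [hPL]; ring)
  have h4 : 4 ≤ q := by have := P.hn4; omega
  obtain ⟨j, hj⟩ : ∃ j, q = 2 * j + 1 := ⟨q / 2, by omega⟩
  have hg : Nat.gcd 2 (q - 1) = 2 := Nat.gcd_eq_left ⟨j, by omega⟩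
  have hn := P.hn
  have hm := P.hm
  -- tori
  have tor : ∀ k, 3 ≤ k → (k = P.n ∨ k = P.m) → ∃ x : PSL, orderOf x = k ∧
      Nat.card (centralizer ({x} : Set PSL)) = k := by
    intro k hk3 hk
    obtain ⟨x, hxs, hTk, -, -, -, -, -, hxo⟩ := exists_torus (F := F) p (n := k) (by omega) (by
      rw [hg]; rcases hk with rfl | rfl <;> rcases P.hadj with e | e <;> omega)
    refine ⟨x, hxo, ?_⟩
    rcases cent_cases p h4 hxs.1 with ⟨h1, -, -⟩ | ⟨-, k', -, h⟩
    · exact (hxs.2 (by rw [h1])).elim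
    rcases h with ⟨-, hc, -⟩ | ⟨h1, -⟩
    · have h5 : centralizer ({x} : Set PSL) = (psl p).T x := by
        refine le_antisymm (fun y hy => ?_) fun y hy =>
          mem_centralizer_singleton_iff.mpr (tor_comm (A := psl p) hxs hy ((psl p).mem_T x hxs))
        by_contra hyT
        have h := ((psl p).T_norm x y hxs (by
          rw [mem_centralizer_singleton_iff.mp hy, mul_inv_cancel_right]; exact (psl p).mem_T x hxs) hyT).1 x
            ((psl p).mem_T x hxs)
        rw [mem_centralizer_singleton_iff.mp hy, mul_inv_cancel_right] at h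
        have : x ^ 2 = 1 := by rw [sq]; nth_rw 2 [h]; exact mul_inv_cancel x
        have h9 := orderOf_le_of_pow_eq_one (by norm_num) this
        omega
      rw [h5]; exact hTk
    · have h9 := orderOf_le_of_pow_eq_one (x := x) (n := 2) (by norm_num) (by rw [sq]; exact h1)
      omega
  ext s
  constructor
  · rintro ⟨x, rfl⟩
    by_cases hx : x = 1
    · subst hx
      refine Or.inl ?_
      show (centralizer ({1} : Set PSL)).index = 1
      rw [index_eq_one, eq_top_iff']
      intro y
      exact mem_centralizer_singleton_iff.mpr (by simp)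
    refine Or.inr ?_
    rcases odd_cases p hodd P hPq hx with ⟨-, h⟩ | ⟨-, h | h⟩ | ⟨-, h⟩
    · exact Or.inl (iq h)
    · exact Or.inr (Or.inr (Or.inl (in' h)))
    · exact Or.inr (Or.inr (Or.inr (im h)))
    · exact Or.inr (Or.inl (i2 h))
  · rintro (rfl | rfl | rfl | rfl | rfl)
    · refine ⟨1, ?_⟩
      show (centralizer ({1} : Set PSL)).index = 1
      rw [index_eq_one, eq_top_iff']
      intro y
      exact mem_centralizer_singleton_iff.mpr (by simp)
    · obtain ⟨u, hu⟩ := exists_order_p (F := F) p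
      exact ⟨u, iq ((card_cent p hu).trans hPq.symm)⟩
    · obtain ⟨x, hx, -⟩ := tor P.n (by have := P.hn4; omega) (Or.inl rfl)
      obtain ⟨c, hc⟩ := P.hn
      have hi : orderOf (x ^ c) = 2 := by
        rw [orderOf_pow' x (by omega), hx, hc, Nat.gcd_mul_left_left, Nat.mul_div_cancel _ (by omega)]
      refine ⟨x ^ c, i2 ?_⟩
      rcases odd_cases p hodd P hPq (x := x ^ c) (fun e => by rw [e, orderOf_one] at hi; omega)
        with ⟨h, -⟩ | ⟨h, -⟩ | ⟨-, h⟩
      · exact absurd (h.symm.trans hi) (hPp ▸ P.hp2)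
      · have h6 := pow_orderOf_eq_one (x ^ c)
        rw [hi, sq] at h6
        exact absurd h6 h
      · exact h
    · obtain ⟨x, -, h⟩ := tor P.n (by have := P.hn4; omega) (Or.inl rfl)
      exact ⟨x, in' h⟩
    · obtain ⟨x, -, h⟩ := tor P.m P.hm3 (Or.inr rfl)
      exact ⟨x, im h⟩

include p in
/-- The centraliser orders in characteristic `2`. -/
theorem even_cases (h4 : 4 ≤ q) (he : 2 ∣ q) {x : PSL} (hx : x ≠ 1) :
    Nat.card (centralizer ({x} : Set PSL)) = q ∨ Nat.card (centralizer ({x} : Set PSL)) = q + 1 ∨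
      Nat.card (centralizer ({x} : Set PSL)) = q - 1 := by
  rcases gcd_cases (F := F) p with ⟨hg, -⟩ | ⟨-, h⟩
  swap
  · omega
  rcases cent_cases p h4 hx with ⟨-, h2, -⟩ | ⟨-, k, hk, h⟩
  · exact Or.inl h2
  rw [hg, one_mul] at hk
  rcases h with ⟨-, h2, -⟩ | ⟨-, -, h3, -⟩
  · rw [h2]; exact Or.inr hk
  · omega

include p in
theorem even_card (h4 : 4 ≤ q) (he : 2 ∣ q) : Nat.card PSL = (q + 1) * (q - 1) * q := by
  have h := card_psl (F := F)
  rcases gcd_cases (F := F) p with ⟨hg, -⟩ | ⟨-, h'⟩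
  · rw [hg, one_mul] at h
    rw [h]
    have := Nat.sq_sub_sq q 1
    simp only [one_pow] at this
    rw [this]
    ring
  · omega

include p in
/-- The class sizes of `PSL₂(q)`, `q` even. -/
theorem even_range (h4 : 4 ≤ q) (he : 2 ∣ q) :
    Set.range (fun g : PSL => (centralizer ({g} : Set PSL)).index) =
      ({1, (q + 1) * (q - 1), q * (q - 1), q * (q + 1)} : Set ℕ) := by
  classical
  have hc := even_card (F := F) p h4 he
  have iq : ∀ {x : PSL}, Nat.card (centralizer ({x} : Set PSL)) = q →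
      (centralizer ({x} : Set PSL)).index = (q + 1) * (q - 1) := fun h => index_eq h hc.symm
  have ip : ∀ {x : PSL}, Nat.card (centralizer ({x} : Set PSL)) = q + 1 →
      (centralizer ({x} : Set PSL)).index = q * (q - 1) := fun h => index_eq h (by rw [hc]; ring)
  have im : ∀ {x : PSL}, Nat.card (centralizer ({x} : Set PSL)) = q - 1 →
      (centralizer ({x} : Set PSL)).index = q * (q + 1) := fun h => index_eq h (by rw [hc]; ring)
  have tor : ∀ k, (k = q + 1 ∨ k = q - 1) → ∃ x : PSL, Nat.card (centralizer ({x} : Set PSL)) = k := by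
    intro k hk
    have hg : Nat.gcd 2 (q - 1) = 1 := by
      rcases gcd_cases (F := F) p with ⟨hg, -⟩ | ⟨-, h⟩
      · exact hg
      · omega
    obtain ⟨x, hxs, -, -, -, -, -, -, hxo⟩ := exists_torus (F := F) p (n := k) (by omega) (by
      rw [hg, Nat.div_one, Nat.div_one]; exact hk)
    refine ⟨x, ?_⟩
    have hle : orderOf x ∣ Nat.card (centralizer ({x} : Set PSL)) :=
      Subgroup.orderOf_dvd_natCard _ (mem_centralizer_singleton_iff.mpr rfl)
    rw [hxo] at hle
    rcases even_cases p h4 he hxs.1 with h | h | h <;> rw [h] at hle ⊢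
    · exfalso
      rcases hk with e | e
      · have := Nat.le_of_dvd (by omega) hle; omega
      · have h5 := Nat.dvd_sub hle (dvd_refl k)
        rw [show q - k = 1 by omega] at h5
        have := Nat.dvd_one.mp h5; omega
    · rcases hk with e | e
      · exact e.symm
      · exfalso
        have h5 := Nat.dvd_sub hle (dvd_refl k)
        rw [show q + 1 - k = 2 by omega] at h5
        have := Nat.le_of_dvd (by norm_num) h5; omega
    · rcases hk with e | e
      · exfalso
        have := Nat.le_of_dvd (by omega) hle; omega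
      · exact e.symm
  ext s
  constructor
  · rintro ⟨x, rfl⟩
    by_cases hx : x = 1
    · subst hx
      refine Or.inl ?_
      show (centralizer ({1} : Set PSL)).index = 1
      rw [index_eq_one, eq_top_iff']
      intro y
      exact mem_centralizer_singleton_iff.mpr (by simp)
    rcases even_cases p h4 he hx with h | h | h
    · exact Or.inr (Or.inl (iq h))
    · exact Or.inr (Or.inr (Or.inl (ip h)))
    · exact Or.inr (Or.inr (Or.inr (im h)))
  · rintro (rfl | rfl | rfl | rfl)
    · refine ⟨1, ?_⟩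
      show (centralizer ({1} : Set PSL)).index = 1
      rw [index_eq_one, eq_top_iff']
      intro y
      exact mem_centralizer_singleton_iff.mpr (by simp)
    · obtain ⟨u, hu⟩ := exists_order_p (F := F) p
      exact ⟨u, iq (card_cent p hu)⟩
    · obtain ⟨x, hx⟩ := tor (q + 1) (Or.inl rfl)
      exact ⟨x, ip hx⟩
    · obtain ⟨x, hx⟩ := tor (q - 1) (Or.inr rfl)
      exact ⟨x, im hx⟩

end CfsgLib.CsPSL
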