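import Cfsg.Agent.Lib.ClassSizesPSL2.Main

/-!
The central extension splits.
-/

set_option autoImplicit false
set_option linter.unusedSectionVars false
set_option linter.style.haveILetI false

namespace CfsgLib.CsPSL

open Subgroup

section Generic

variable {G : Type*} [Group G] [Finite G]

/-- The transfer criterion. -/
theorem commutator_inf_center_eq_bot
    (h : ∀ r : ℕ, r.Prime → ∀ R : Sylow r G, ∀ z ∈ center G, z ∈ ⁅(R : Subgroup G), (R : Subgroup G)⁆ → z = 1) :
    commutator G ⊓ center G = ⊥ := by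
  classical
  rw [Subgroup.eq_bot_iff_forall]
  rintro z ⟨hzG, hz⟩
  by_contra hz1
  obtain ⟨r, hr, hrd⟩ := Nat.exists_prime_and_dvd (show orderOf z ≠ 1 by rwa [ne_eq, orderOf_eq_one_iff])
  set w := z ^ (orderOf z / r) with hw
  have hwo : orderOf w = r := orderOf_pow_orderOf_div (orderOf_pos z).ne' hrd
  have hwG : w ∈ commutator G := pow_mem hzG _
  have hwZ : w ∈ center G := pow_mem hz _
  haveI : Fact r.Prime := ⟨hr⟩
  obtain ⟨R, hR⟩ := (IsPGroup.of_card (G := zpowers w) (p := r) (n := 1)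
    (by rw [Nat.card_zpowers, hwo, pow_one])).exists_le_sylow
  have hwR : w ∈ (R : Subgroup G) := hR (mem_zpowers w)
  let φ : (R : Subgroup G) →* Abelianization (R : Subgroup G) := Abelianization.of
  have key : ∀ (k : ℕ) (g₀ : G), g₀⁻¹ * w ^ k * g₀ ∈ (R : Subgroup G) → g₀⁻¹ * w ^ k * g₀ = w ^ k := by
    intro k g₀ _
    rw [mul_assoc, ← mem_center_iff.mp (pow_mem hwZ k) g₀, inv_mul_cancel_left]
  have h1 := MonoidHom.transfer_eq_pow φ w key
  have h2 : (MonoidHom.transfer φ) w = 1 :=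
    MonoidHom.mem_ker.mp (Abelianization.commutator_subset_ker (MonoidHom.transfer φ) hwG)
  rw [h2] at h1
  have h3 : (⟨w ^ (R : Subgroup G).index, pow_mem hwR _⟩ : (R : Subgroup G)) ∈ commutator (R : Subgroup G) := by
    rw [← Abelianization.ker_of, MonoidHom.mem_ker]
    exact h1.symm
  have h4 : w ^ (R : Subgroup G).index ∈ ⁅(R : Subgroup G), (R : Subgroup G)⁆ := by
    rw [← map_subtype_commutator]
    exact ⟨_, h3, rfl⟩
  have h5 := h r hr R _ (pow_mem hwZ _) h4
  have h6 := orderOf_dvd_of_pow_eq_one h5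
  rw [hwo] at h6
  exact R.not_dvd_index h6

/-- No excess means that the centraliser is the whole preimage. -/
theorem qc_le {u : G}
    (h : Nat.card (centralizer ({(u : G ⧸ center G)} : Set (G ⧸ center G))) = cz u) :
    qc u ≤ centralizer ({u} : Set G) := by
  rw [card_cent_quot] at h
  have hne : cz u ≠ 0 := fun e => by
    have := cz_mul u
    rw [e, zero_mul] at this
    exact index_ne_zero_of_finite this.symm
  rw [← relIndex_eq_one]
  exact (mul_eq_left₀ hne).mp h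

theorem mem_qc {u v : G} (h : Commute (v : G ⧸ center G) (u : G ⧸ center G)) : v ∈ qc u :=
  mem_centralizer_singleton_iff.mpr h.eq

/-- A subgroup with abelian image and no excess is abelian. -/
theorem commutator_eq_bot_of {R : Subgroup G}
    (hab : ∀ u ∈ R, ∀ v ∈ R, Commute (v : G ⧸ center G) (u : G ⧸ center G))
    (hfull : ∀ u ∈ R, u ∉ center G → qc u ≤ centralizer ({u} : Set G)) : ⁅R, R⁆ = ⊥ := by
  rw [commutator_eq_bot_iff_le_centralizer]
  intro u hu
  rw [mem_centralizer_iff]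
  intro v hv
  by_cases huz : u ∈ center G
  · exact mem_center_iff.mp huz v
  · exact mem_centralizer_singleton_iff.mp (hfull u hu huz (mem_qc (hab u hu v hv)))

/-- Commutators in a subgroup of dihedral shape over the centre. -/
theorem commutator_le_zpowers {R : Subgroup G} {c s d : G}
    (hform : ∀ v ∈ R, ∃ (i : ℤ) (z : G), z ∈ center G ∧ (v = c ^ i * z ∨ v = s * (c ^ i * z)))
    (hsc : s * c * s⁻¹ = d * c) (hdc : Commute d c) (hsd : s * d * s⁻¹ = d⁻¹) : ⁅R, R⁆ ≤ zpowers d := by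
  have hzc : ∀ {z : G}, z ∈ center G → ∀ g : G, Commute z g := fun hz g => (mem_center_iff.mp hz g).symm
  have hsci : ∀ (i : ℤ), s * c ^ i * s⁻¹ = d ^ i * c ^ i := fun i => by
    rw [← conj_zpow, hsc, hdc.mul_zpow]
  have hA : ∀ {i j : ℤ} {z z' : G}, z ∈ center G → z' ∈ center G → Commute (c ^ i * z) (c ^ j * z') := by
    intro i j z z' hz hz'
    exact ((Commute.refl c).zpow_zpow i j |>.mul_right (hzc hz' _).symm).mul_left
      ((hzc hz _).mul_right (hzc hz _))
  have hconj : ∀ {i : ℤ} {z : G}, z ∈ center G → s * (c ^ i * z) * s⁻¹ = d ^ i * (c ^ i * z) := by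
    intro i z hz
    rw [← mul_assoc s, mul_assoc (s * c ^ i), (hzc hz s⁻¹).eq, ← mul_assoc, hsci, mul_assoc]
  have hdA : ∀ {i j : ℤ} {z : G}, z ∈ center G → Commute (d ^ j) (c ^ i * z) := fun hz =>
    (hdc.zpow_zpow _ _).mul_right (hzc hz _).symm
  rw [Subgroup.commutator_le]
  intro v hv w hw
  obtain ⟨i, z, hz, hv'⟩ := hform v hv
  obtain ⟨j, z', hz', hw'⟩ := hform w hw
  rw [commutatorElement_def]
  rcases hv' with rfl | rfl <;> rcases hw' with rfl | rfl
  · rw [(hA hz hz').eq, mul_inv_cancel_right, mul_inv_cancel]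
    exact one_mem _
  · have e : c ^ i * z * (s * (c ^ j * z')) * (c ^ i * z)⁻¹ * (s * (c ^ j * z'))⁻¹ = (d ^ i)⁻¹ := by
      calc c ^ i * z * (s * (c ^ j * z')) * (c ^ i * z)⁻¹ * (s * (c ^ j * z'))⁻¹
          = c ^ i * z * s * (c ^ j * z' * (c ^ i * z)⁻¹ * (c ^ j * z')⁻¹) * s⁻¹ := by group
        _ = c ^ i * z * s * (c ^ i * z)⁻¹ * s⁻¹ := by
            rw [((hA hz' hz).inv_right).eq, mul_inv_cancel_right]
        _ = c ^ i * z * (s * (c ^ i * z) * s⁻¹)⁻¹ := by group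
        _ = _ := by rw [hconj hz, mul_inv_rev, mul_inv_cancel_left]
    rw [e]
    exact inv_mem (zpow_mem (mem_zpowers d) i)
  · have e : s * (c ^ i * z) * (c ^ j * z') * (s * (c ^ i * z))⁻¹ * (c ^ j * z')⁻¹ = d ^ j := by
      calc s * (c ^ i * z) * (c ^ j * z') * (s * (c ^ i * z))⁻¹ * (c ^ j * z')⁻¹
          = s * (c ^ i * z * (c ^ j * z') * (c ^ i * z)⁻¹) * s⁻¹ * (c ^ j * z')⁻¹ := by group
        _ = s * (c ^ j * z') * s⁻¹ * (c ^ j * z')⁻¹ := by rw [(hA hz hz').eq, mul_inv_cancel_right]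
        _ = _ := by rw [hconj hz', mul_inv_cancel_right]
    rw [e]
    exact zpow_mem (mem_zpowers d) j
  · have hb : c ^ j * z' * (c ^ i * z)⁻¹ = c ^ (j - i) * (z' * z⁻¹) := by
      rw [mul_inv_rev, zpow_sub, show c ^ j * z' * (z⁻¹ * (c ^ i)⁻¹) = c ^ j * (z' * z⁻¹ * (c ^ i)⁻¹) by group,
        (hzc (mul_mem hz' (inv_mem hz)) (c ^ i)⁻¹).eq, mul_assoc (c ^ j)]
    have e : s * (c ^ i * z) * (s * (c ^ j * z')) * (s * (c ^ i * z))⁻¹ * (s * (c ^ j * z'))⁻¹ = (d ^ (j - i))⁻¹ := by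
      calc s * (c ^ i * z) * (s * (c ^ j * z')) * (s * (c ^ i * z))⁻¹ * (s * (c ^ j * z'))⁻¹
          = s * (c ^ i * z * (s * (c ^ j * z' * (c ^ i * z)⁻¹) * s⁻¹) * (c ^ j * z')⁻¹) * s⁻¹ := by group
        _ = s * (c ^ i * z * (d ^ (j - i) * (c ^ j * z' * (c ^ i * z)⁻¹)) * (c ^ j * z')⁻¹) * s⁻¹ := by
            rw [hb, hconj (mul_mem hz' (inv_mem hz))]
        _ = s * (c ^ i * z * d ^ (j - i) * ((c ^ j * z' * (c ^ i * z)⁻¹) * (c ^ j * z')⁻¹)) * s⁻¹ := by group
        _ = s * (c ^ i * z * d ^ (j - i) * (c ^ i * z)⁻¹) * s⁻¹ := by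
            rw [((hA hz' hz).inv_right).eq, mul_inv_cancel_right]
        _ = s * d ^ (j - i) * s⁻¹ := by rw [← (hdA hz).eq, mul_inv_cancel_right]
        _ = _ := by rw [← conj_zpow, hsd, inv_zpow]
    rw [e]
    exact inv_mem (zpow_mem (mem_zpowers d) _)

variable {P : Type*} [Group P]

theorem card_cent_equiv (e : G ⧸ center G ≃* P) (x : G ⧸ center G) :
    Nat.card (centralizer ({e x} : Set P)) = Nat.card (centralizer ({x} : Set (G ⧸ center G))) := by
  refine Nat.card_congr (e.toEquiv.subtypeEquiv fun y => ?_).symm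
  show y ∈ centralizer ({x} : Set (G ⧸ center G)) ↔ e y ∈ centralizer ({e x} : Set P)
  rw [mem_centralizer_singleton_iff, mem_centralizer_singleton_iff, ← map_mul, ← map_mul,
    e.injective.eq_iff]

/-- The derived group is a complement of the centre. -/
theorem split_of (e : G ⧸ center G ≃* P) [IsSimpleGroup P] (hna : ∃ a b : P, a * b ≠ b * a)
    (h : ∀ r : ℕ, r.Prime → ∀ R : Sylow r G, ∀ z ∈ center G, z ∈ ⁅(R : Subgroup G), (R : Subgroup G)⁆ → z = 1) :
    ∃ N A : Subgroup G, N.Normal ∧ A ≤ center G ∧ N ⊓ A = ⊥ ∧ N ⊔ A = ⊤ ∧ Nonempty (N ≃* P) := by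
  have hbot := commutator_inf_center_eq_bot h
  have hperf : commutator P = ⊤ :=
    (Subgroup.Normal.eq_bot_or_eq_top (inferInstance : (commutator P).Normal)).resolve_left fun hb => by
      obtain ⟨a, b, hab⟩ := hna
      exact hab (commutatorElement_eq_one_iff_mul_comm.1 (by
        rw [← Subgroup.mem_bot, ← hb]
        exact Subgroup.commutator_mem_commutator (Subgroup.mem_top a) (Subgroup.mem_top b)))
  let ψ : G →* P := e.toMonoidHom.comp (QuotientGroup.mk' (center G))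
  have hψ : Function.Surjective ψ := e.surjective.comp (QuotientGroup.mk'_surjective _)
  have hker : ψ.ker = center G := by
    ext g
    rw [MonoidHom.mem_ker]
    show e (g : G ⧸ center G) = 1 ↔ _
    rw [map_eq_one_iff e e.injective, QuotientGroup.eq_one_iff]
  have hmap : (commutator G).map ψ = ⊤ := by
    rw [commutator_def, map_commutator, map_top_of_surjective ψ hψ]
    exact hperf
  have hsup : commutator G ⊔ center G = ⊤ := by
    rw [← hker, ← comap_map_eq, hmap, comap_top]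
  refine ⟨commutator G, center G, inferInstance, le_rfl, hbot, hsup, ⟨MulEquiv.ofBijective
    (ψ.comp (commutator G).subtype) ⟨?_, ?_⟩⟩⟩
  · intro a b hab
    have hab' : ψ (a : G) = ψ (b : G) := hab
    have h1 : (a : G) * (b : G)⁻¹ ∈ commutator G := mul_mem a.2 (inv_mem b.2)
    have h2 : (a : G) * (b : G)⁻¹ ∈ ψ.ker := by
      rw [MonoidHom.mem_ker, map_mul, map_inv, hab', mul_inv_cancel]
    rw [hker] at h2
    have hmem : (a : G) * (b : G)⁻¹ ∈ commutator G ⊓ center G := ⟨h1, h2⟩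
    rw [hbot, mem_bot, mul_inv_eq_one] at hmem
    exact Subtype.ext hmem
  · intro y
    obtain ⟨g, hg, rfl⟩ := hmap.ge (mem_top y)
    exact ⟨⟨g, hg⟩, rfl⟩

end Generic

section Linear

variable {F : Type*} [Field F] [Fintype F] (p : ℕ) [Fact p.Prime] [CharP F p]

local notation "PSL" => Matrix.ProjectiveSpecialLinearGroup (Fin 2) F
local notation "q" => Fintype.card F

include p in
/-- Centralisers of elements other than involutions in odd characteristic are abelian. -/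
theorem cent_comm (h4 : 4 ≤ q) {x : PSL} (hx : x ≠ 1) (h2 : x * x ≠ 1 ∨ 2 ∣ q) :
    ∀ y ∈ centralizer ({x} : Set PSL), ∀ z ∈ centralizer ({x} : Set PSL), Commute y z := by
  rcases cent_cases p h4 hx with ⟨-, -, h⟩ | ⟨-, k, hk, ⟨-, -, h⟩ | ⟨hxx, -, hk2, -⟩⟩
  · exact h
  · exact h
  · exfalso
    rcases h2 with h2 | h2
    · exact h2 hxx
    rcases CfsgLib.DicksonFull.gcd_cases (F := F) p with ⟨hg, hq⟩ | ⟨hg, hq⟩
    · rw [hg, one_mul] at hk
      omega
    · omega

omit p in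
theorem eq_of_invol {H : Type*} [Group H] [Finite H] {T : Subgroup H} (hT : IsCyclic T) {a b : H}
    (ha : a ∈ T) (hb : b ∈ T) (ha2 : a * a = 1) (hb2 : b * b = 1) (ha1 : a ≠ 1) (hb1 : b ≠ 1) : a = b := by
  classical
  haveI := Fintype.ofFinite T
  by_contra hne
  have h := IsCyclic.card_pow_eq_one_le (α := T) (n := 2) two_pos
  have hsub : ({1, ⟨a, ha⟩, ⟨b, hb⟩} : Finset T) ⊆ Finset.univ.filter (fun x : T => x ^ 2 = 1) := by
    intro x hx
    simp only [Finset.mem_insert, Finset.mem_singleton] at hx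
    rw [Finset.mem_filter]
    refine ⟨Finset.mem_univ _, ?_⟩
    rcases hx with rfl | rfl | rfl
    · exact one_pow 2
    · exact Subtype.ext (by simpa [sq] using ha2)
    · exact Subtype.ext (by simpa [sq] using hb2)
  have hc : ({1, ⟨a, ha⟩, ⟨b, hb⟩} : Finset T).card = 3 := by
    rw [Finset.card_insert_of_notMem, Finset.card_insert_of_notMem, Finset.card_singleton]
    · simpa using hne
    · simp only [Finset.mem_insert, Finset.mem_singleton, not_or]
      exact ⟨fun e => ha1 (congrArg Subtype.val e).symm, fun e => hb1 (congrArg Subtype.val e).symm⟩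
  have := (Finset.card_le_card hsub).trans h
  omega

include p in
/-- Involutions are conjugate, `q` odd. -/
theorem invol_conj (hodd : ¬ 2 ∣ q) (P : OddPar) (hPq : P.q = q) (hX : XOdd P PSL)
    {x y : PSL} (hx : x * x = 1) (hx1 : x ≠ 1) (hy : y * y = 1) (hy1 : y ≠ 1) : IsConj y x := by
  have h4 : 4 ≤ q := by have := P.hn4; have : P.n + P.m = q := hPq; omega
  have hxo : orderOf x = 2 := orderOf_eq_prime (by rw [sq]; exact hx) hx1
  have hyo : orderOf y = 2 := orderOf_eq_prime (by rw [sq]; exact hy) hy1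
  have hc2 := hX.comm_invol hx1 hxo (Commute.refl x)
  have hp2 : p ≠ 2 := fun e => by
    obtain ⟨f, -, hf⟩ := FiniteField.card F p
    exact hodd (hf ▸ e ▸ dvd_pow_self p f.ne_zero)
  rcases cent_cases p h4 hx1 with ⟨h1, -, -⟩ | ⟨-, k, hk, ⟨h1, -⟩ | ⟨-, hck, hk2, T, hT, hxT, hTle, hTk, hinv⟩⟩
  · exact absurd (h1.symm.trans hxo) hp2
  · exact absurd hx h1
  have hcard : Nat.card (centralizer ({x} : Set PSL)) = 2 * P.n := by
    refine hc2.resolve_left fun e => ?_
    rcases odd_cases p hodd P hPq hx1 with ⟨h1, -⟩ | ⟨h1, -⟩ | ⟨-, h1⟩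
    · exact hp2 (h1.symm.trans hxo)
    · exact h1 hx
    · rw [h1] at e; have := P.n_pos; omega
  have hkn : k = P.n := by omega
  -- nontrivial elements of the torus
  have hcent : ∀ z ∈ T, z * z ≠ 1 → centralizer ({z} : Set PSL) = T := by
    intro z hz hz2
    have hab := cent_comm p h4 (x := z) (fun e => hz2 (by simp [e])) (Or.inl hz2)
    have hTab : ∀ u ∈ T, ∀ v ∈ T, Commute u v := fun u hu v hv => by
      haveI := hT
      letI := IsCyclic.commGroup (α := T)
      exact congrArg Subtype.val (mul_comm (⟨u, hu⟩ : T) ⟨v, hv⟩)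
    refine le_antisymm (fun g hg => ?_) fun g hg => mem_centralizer_singleton_iff.mpr (hTab g hg z hz).eq
    by_contra hgT
    have hgx : g ∈ centralizer ({x} : Set PSL) :=
      mem_centralizer_singleton_iff.mpr (hab g hg x (mem_centralizer_singleton_iff.mpr (hTab x hxT z hz).eq)).eq
    have h1 := hinv g hgx hgT z hz
    rw [mem_centralizer_singleton_iff.mp hg, mul_inv_cancel_right] at h1
    exact hz2 (eq_inv_iff_mul_eq_one.mp h1)
  have huniq : ∀ z ∈ T, z * z = 1 → z ≠ 1 → z = x := fun z hz hz2 hz1 => eq_of_invol hT hz hxT hz2 hx hz1 hx1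
  have hTI : ∀ g : PSL, ∀ z ∈ (T : Set PSL) \ {1}, g * z * g⁻¹ ∈ (T : Set PSL) \ {1} →
      g ∈ centralizer ({x} : Set PSL) := by
    rintro g z ⟨hz, hz1⟩ ⟨hgz, hgz1⟩
    have main : g * x * g⁻¹ = x := by
      refine huniq _ ?_ ?_ (fun e => hx1 (conj_eq_one_iff.mp e))
      · by_cases hz2 : z * z = 1
        · rw [← huniq z hz hz2 hz1]; exact hgz
        · have hgz2 : g * z * g⁻¹ * (g * z * g⁻¹) ≠ 1 := by
            rw [show g * z * g⁻¹ * (g * z * g⁻¹) = g * (z * z) * g⁻¹ by group]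
            exact fun e => hz2 (conj_eq_one_iff.mp e)
          rw [← hcent _ hgz hgz2]
          exact mem_centralizer_singleton_iff.mpr
            (conj_cent_comm (g := g) (cm ((hcent z hz hz2).ge hxT))).eq
      · rw [show g * x * g⁻¹ * (g * x * g⁻¹) = g * (x * x) * g⁻¹ by group, hx]
        group
    exact mem_centralizer_singleton_iff.mpr (mul_inv_eq_iff_eq_mul.mp main)
  have hinvT : ∀ g ∈ centralizer ({x} : Set PSL), ∀ z ∈ (T : Set PSL) \ {1}, g * z * g⁻¹ ∈ (T : Set PSL) \ {1} := by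
    rintro g hg z ⟨hz, hz1⟩
    refine ⟨?_, fun e => hz1 (conj_eq_one_iff.mp e)⟩
    by_cases hgT : g ∈ T
    · exact mul_mem (mul_mem hgT hz) (inv_mem hgT)
    · show g * z * g⁻¹ ∈ T
      rw [hinv g hg hgT z hz]
      exact inv_mem hz
  have hset : {z : PSL | ∃ g : PSL, g * z * g⁻¹ ∈ (T : Set PSL) \ {1}} = cOrd PSL ({P.n, 2 * P.n} : Set ℕ) := by
    refine Set.eq_of_subset_of_ncard_le ?_ ?_ (Set.toFinite _)
    · rintro z ⟨g, hgT, hg1⟩
      have hz1 : z ≠ 1 := fun e => hg1 (by rw [e, mul_one, mul_inv_cancel]; rfl)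
      refine cOrd_invariant _ (g * z * g⁻¹) ⟨fun e => hz1 (conj_eq_one_iff.mp e), ?_⟩ z (isConj_iff.mpr ⟨g⁻¹, by group⟩)
      exact hX.comm_invol (fun e => hz1 (conj_eq_one_iff.mp e)) hxo (cm (hTle hgT)).symm
    · rw [union_count _ _ hinvT hTI, (hX.counts).2, index_of_card (b := P.q * P.m) (by rw [hX.card_eq]; ring) hcard,
        Set.ncard_diff_singleton_of_mem (show (1 : PSL) ∈ (T : Set PSL) from one_mem T),
        ← Nat.card_coe_set_eq (T : Set PSL)]
      show (P.n - 1) * (P.q * P.m) ≤ P.q * P.m * (Nat.card T - 1)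
      rw [hTk, hkn, mul_comm]
  have hmem : y ∈ cOrd PSL ({P.n, 2 * P.n} : Set ℕ) := ⟨hy1, hX.comm_invol hy1 hyo (Commute.refl y)⟩
  rw [← hset] at hmem
  obtain ⟨g, hgT, hg1⟩ := hmem
  refine isConj_iff.mpr ⟨g, huniq _ hgT ?_ hg1⟩
  rw [show g * y * g⁻¹ * (g * y * g⁻¹) = g * (y * y) * g⁻¹ by group, hy]
  group

variable {G : Type*} [Group G] [Finite G]

include p in
/-- Abelian image of a Sylow subgroup. -/
theorem sylow_image_comm (h4 : 4 ≤ q) (e : G ⧸ center G ≃* PSL) {r : ℕ} (hr : r.Prime)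
    (hr' : r ≠ 2 ∨ 2 ∣ q) (R : Sylow r G) :
    ∀ u ∈ (R : Subgroup G), ∀ v ∈ (R : Subgroup G), Commute (v : G ⧸ center G) (u : G ⧸ center G) := by
  classical
  haveI : Fact r.Prime := ⟨hr⟩
  intro u hu v hv
  set ψ : G →* PSL := e.toMonoidHom.comp (QuotientGroup.mk' (center G))
  set Rb := (R : Subgroup G).map ψ with hRb
  suffices h : Commute (ψ v) (ψ u) by
    exact e.injective (show e ((v : G ⧸ center G) * u) = e ((u : G ⧸ center G) * v) by
      rw [map_mul, map_mul]; exact h.eq)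
  by_cases htriv : Nat.card Rb = 1
  · have hb := Subgroup.card_eq_one.mp htriv
    rw [show ψ v = 1 from (mem_bot.mp (hb ▸ mem_map_of_mem ψ hv))]
    exact Commute.one_left _
  haveI : Nontrivial Rb := Finite.one_lt_card_iff_nontrivial.mp (by have := Nat.card_pos (α := Rb); omega)
  have hpg : IsPGroup r Rb := R.isPGroup'.map ψ
  haveI := hpg.center_nontrivial
  obtain ⟨⟨z, hz⟩, hz1⟩ := exists_ne (1 : center Rb)
  have hz1' : (z : PSL) ≠ 1 := fun e' => hz1 (Subtype.ext (Subtype.ext e'))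
  have h2 : (z : PSL) * z ≠ 1 ∨ 2 ∣ q := by
    refine hr'.imp_left fun hr2 hzz => ?_
    have ho : orderOf (z : PSL) = 2 := orderOf_eq_prime (by rw [sq]; exact hzz) hz1'
    obtain ⟨i, hi⟩ := IsPGroup.iff_orderOf.mp hpg z
    rw [← Subgroup.orderOf_coe, ho] at hi
    exact hr2 ((Nat.prime_dvd_prime_iff_eq Nat.prime_two hr).mp (Nat.prime_two.dvd_of_dvd_pow (dvd_of_eq hi))).symm
  have hle : ∀ w ∈ Rb, w ∈ centralizer ({(z : PSL)} : Set PSL) := fun w hw =>
    mem_centralizer_singleton_iff.mpr (congrArg Subtype.val (mem_center_iff.mp hz ⟨w, hw⟩))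
  exact cent_comm p h4 hz1' h2 _ (hle _ (mem_map_of_mem ψ hv)) _ (hle _ (mem_map_of_mem ψ hu))

include p in
/-- Centralisers of the non-central elements of odd order have no excess. -/
theorem full_odd (hodd : ¬ 2 ∣ q) (P : OddPar) (hPq : P.q = q) (hD : SizeData G P.sizes)
    (e : G ⧸ center G ≃* PSL) {u : G} (hu : u ∉ center G)
    (h2 : (u : G ⧸ center G) * u ≠ 1) :
    qc u ≤ centralizer ({u} : Set G) := by
  refine qc_le ?_
  rcases quot_cases hD hu with ⟨-, a, b⟩ | ⟨-, a, b⟩ | ⟨-, a, b⟩ | ⟨-, a, b | b⟩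
  · rw [b, a]
  · rw [b, a]
  · rw [b, a]
  · rw [b, a]
  exfalso
  rw [← card_cent_equiv e] at b
  have := P.hm
  have := P.hn
  have := P.hadj
  have hne : e (u : G ⧸ center G) ≠ 1 := fun h => quot_ne_one hu (e.injective (h.trans (map_one e).symm))
  rcases odd_cases p hodd P hPq hne with ⟨-, h⟩ | ⟨-, h | h⟩ | ⟨h, -⟩
  · have hh : P.n + P.m = 2 * P.n := h.symm.trans b
    omega
  · have := h.symm.trans b; have := P.n_pos; omega
  · have := h.symm.trans b; omega
  · exact h2 (e.injective (by rw [map_mul, h, map_one]))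

include p in
/-- Centralisers of lifts of involutions have no excess. -/
theorem full_invol (hodd : ¬ 2 ∣ q) (P : OddPar) (hPq : P.q = q) (hD : SizeData G P.sizes)
    (e : G ⧸ center G ≃* PSL) {u : G} (hu : u ∉ center G)
    (h2 : (u : G ⧸ center G) * u = 1) :
    qc u ≤ centralizer ({u} : Set G) := by
  have hn0 := P.n_pos
  have hX : XOdd P PSL := by
    have hq := xOdd_quot hD
    obtain ⟨a, ha, hac⟩ := hq.exists_q
    obtain ⟨b, hb, hbc⟩ := hq.exists_m
    obtain ⟨c, hc, hcc⟩ := hq.exists_n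
    refine ⟨(Nat.card_congr e.toEquiv).symm.trans hq.card_eq, fun x hx => ?_,
      ⟨e a, fun h => ha (e.injective (h.trans (map_one e).symm)), by rw [card_cent_equiv]; exact hac⟩,
      ⟨e b, fun h => hb (e.injective (h.trans (map_one e).symm)), by rw [card_cent_equiv]; exact hbc⟩,
      ⟨e c, fun h => hc (e.injective (h.trans (map_one e).symm)), by rw [card_cent_equiv]; exact hcc⟩⟩
    obtain ⟨y, rfl⟩ := e.surjective x
    rw [card_cent_equiv]
    exact hq.cases y fun h => hx (by rw [h, map_one])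
  obtain ⟨g, hg⟩ := hD.exists_cs _ P.mini_I.1
  have hgz := hD.not_center P.mini_I.1 hg
  have hqm : ¬ 2 ∣ P.q * P.m := fun h => (Nat.prime_two.dvd_mul.mp h).elim P.q_odd P.hm
  have hg2 : Nat.card (centralizer ({(g : G ⧸ center G)} : Set (G ⧸ center G))) = 2 * P.n := by
    rcases quot_cases hD hgz with ⟨a, -⟩ | ⟨a, -⟩ | ⟨-, -, a⟩ | ⟨a, -⟩
    · exact absurd ((hg.symm.trans a).symm ▸ ⟨P.n * P.m, by ring⟩ : 2 ∣ P.q * P.m) hqm
    · exact absurd ((hg.symm.trans a).symm ▸ ⟨P.q * P.n, by ring⟩ : 2 ∣ P.q * P.m) hqm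
    · exact a
    · exact absurd ((hg.symm.trans a).symm ▸ ⟨P.q * P.m, by ring⟩ : 2 ∣ P.q * P.m) hqm
  have hne : ∀ {w : G}, w ∉ center G → e (w : G ⧸ center G) ≠ 1 := fun hw h =>
    quot_ne_one hw (e.injective (h.trans (map_one e).symm))
  have hgg : e (g : G ⧸ center G) * e g = 1 := by
    rw [← card_cent_equiv e] at hg2
    have := P.hm
    have := P.hn
    have := P.hadj
    rcases odd_cases p hodd P hPq (hne hgz) with ⟨-, h⟩ | ⟨-, h | h⟩ | ⟨h, -⟩
    · exfalso
      have hh : P.n + P.m = 2 * P.n := h.symm.trans hg2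
      omega
    · have := h.symm.trans hg2; omega
    · have := h.symm.trans hg2; omega
    · exact h
  have hconj := invol_conj p hodd P hPq hX (x := e (u : G ⧸ center G)) (y := e (g : G ⧸ center G))
    (by rw [← map_mul, h2, map_one]) (hne hu) hgg (hne hgz)
  obtain ⟨c, hc⟩ := isConj_iff.mp hconj
  obtain ⟨c', rfl⟩ := e.surjective c
  obtain ⟨k, rfl⟩ := QuotientGroup.mk_surjective c'
  have hk : ((k * g * k⁻¹ : G) : G ⧸ center G) = (u : G ⧸ center G) := e.injective (by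
    rw [← hc]; simp only [QuotientGroup.mk_mul, QuotientGroup.mk_inv, map_mul, map_inv])
  obtain ⟨z, hz, hu'⟩ : ∃ z ∈ center G, u = k * g * k⁻¹ * z :=
    ⟨(k * g * k⁻¹)⁻¹ * u, QuotientGroup.eq.mp hk, by rw [mul_inv_cancel_left]⟩
  have hcs : cs u = cs g := by
    have : centralizer ({k * g * k⁻¹ * z} : Set G) = centralizer ({k * g * k⁻¹} : Set G) := by
      ext w
      rw [mem_centralizer_singleton_iff, mem_centralizer_singleton_iff, mul_assoc (k * g * k⁻¹) z,
        ← mem_center_iff.mp hz w, ← mul_assoc w, ← mul_assoc (k * g * k⁻¹) w, mul_left_inj]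
    rw [hu', cs, this]
    exact cs_conj g k
  refine qc_le ?_
  rw [hg] at hcs
  rcases quot_cases hD hu with ⟨a, -⟩ | ⟨a, -⟩ | ⟨-, a, b⟩ | ⟨a, -⟩
  · exact absurd ((hcs.symm.trans a).symm ▸ ⟨P.n * P.m, by ring⟩ : 2 ∣ P.q * P.m) hqm
  · exact absurd ((hcs.symm.trans a).symm ▸ ⟨P.q * P.n, by ring⟩ : 2 ∣ P.q * P.m) hqm
  · rw [b, a]
  · exact absurd ((hcs.symm.trans a).symm ▸ ⟨P.q * P.m, by ring⟩ : 2 ∣ P.q * P.m) hqm

include p in
/-- The Sylow `2`-subgroups, `q` odd. -/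
theorem sylow_two_odd (hodd : ¬ 2 ∣ q) (P : OddPar) (hPq : P.q = q) (hPL : Nat.card PSL = P.L)
    (hD : SizeData G P.sizes) (e : G ⧸ center G ≃* PSL) (R : Sylow 2 G) :
    ∀ z ∈ center G, z ∈ ⁅(R : Subgroup G), (R : Subgroup G)⁆ → z = 1 := by
  classical
  haveI : Fact (Nat.Prime 2) := ⟨Nat.prime_two⟩
  have h4 : 4 ≤ q := by have := P.hn4; have : P.n + P.m = q := hPq; omega
  set ψ : G →* PSL := e.toMonoidHom.comp (QuotientGroup.mk' (center G)) with hψ
  have hψs : Function.Surjective ψ := e.surjective.comp (QuotientGroup.mk'_surjective _)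
  have hker : ∀ g : G, ψ g = 1 ↔ g ∈ center G := fun g => by
    show e (g : G ⧸ center G) = 1 ↔ _
    rw [map_eq_one_iff e e.injective, QuotientGroup.eq_one_iff]
  set Rb := R.mapSurjective hψs with hRb
  have hRbmem : ∀ w : PSL, w ∈ (Rb : Subgroup PSL) → ∃ g ∈ (R : Subgroup G), ψ g = w := fun w hw => by
    rw [hRb, Sylow.coe_mapSurjective] at hw
    exact hw
  have hmemRb : ∀ g ∈ (R : Subgroup G), ψ g ∈ (Rb : Subgroup PSL) := fun g hg => by
    rw [hRb, Sylow.coe_mapSurjective]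
    exact mem_map_of_mem ψ hg
  have hRb2 : 2 ∣ Nat.card Rb := by
    have h1 : 2 ∣ Nat.card PSL := ⟨P.n * P.m * P.q, by rw [hPL]; simp only [OddPar.L]; ring⟩
    rw [← (Rb : Subgroup PSL).card_mul_index] at h1
    exact (Nat.prime_two.dvd_mul.mp h1).resolve_right Rb.not_dvd_index
  haveI : Nontrivial (Rb : Subgroup PSL) :=
    Finite.one_lt_card_iff_nontrivial.mp (Nat.lt_of_lt_of_le one_lt_two (Nat.le_of_dvd Nat.card_pos hRb2))
  haveI := Rb.isPGroup'.center_nontrivial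
  have h2c : 2 ∣ Nat.card (center (Rb : Subgroup PSL)) := by
    obtain ⟨j, hj⟩ := (Rb.isPGroup'.to_subgroup (center (Rb : Subgroup PSL))).exists_card_eq
    rcases j with _ | j
    · rw [pow_zero] at hj
      exact absurd hj (ne_of_gt Finite.one_lt_card)
    · rw [hj]; exact dvd_pow_self 2 (by omega)
  obtain ⟨t', ht'⟩ := exists_prime_orderOf_dvd_card' (G := center (Rb : Subgroup PSL)) 2 h2c
  set t : PSL := ((t' : (Rb : Subgroup PSL)) : PSL) with htdef
  have ht2 : orderOf t = 2 := by rw [htdef, Subgroup.orderOf_coe, Subgroup.orderOf_coe, ht']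
  have ht1 : t ≠ 1 := fun e' => by simp [e'] at ht2
  have htt : t * t = 1 := by
    have h := pow_orderOf_eq_one t
    rwa [ht2, sq] at h
  have hRle : (Rb : Subgroup PSL) ≤ centralizer ({t} : Set PSL) := fun w hw =>
    mem_centralizer_singleton_iff.mpr (congrArg Subtype.val (mem_center_iff.mp t'.2 ⟨w, hw⟩))
  have hp2 : p ≠ 2 := fun e' => by
    obtain ⟨f, -, hf⟩ := FiniteField.card F p
    exact hodd (hf ▸ e' ▸ dvd_pow_self p f.ne_zero)
  rcases cent_cases p h4 ht1 with ⟨h1, -, -⟩ | ⟨-, k, -, ⟨h1, -⟩ | ⟨-, hck, hk2, T, hT, htT, hTle, hTk, hinv⟩⟩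
  · exact absurd (h1.symm.trans ht2) hp2
  · exact absurd htt h1
  -- the cyclic part of the image
  haveI := hT
  haveI : IsCyclic ↥((Rb : Subgroup PSL) ⊓ T) := isCyclic_of_injective _ (inclusion_injective inf_le_right)
  obtain ⟨cb, hcb⟩ := IsCyclic.exists_generator (α := ↥((Rb : Subgroup PSL) ⊓ T))
  obtain ⟨c, hcR, hcψ⟩ := hRbmem (cb : PSL) cb.2.1
  have hgen : ∀ w ∈ (Rb : Subgroup PSL), w ∈ T → ∃ i : ℤ, w = (cb : PSL) ^ i := fun w hw hwT => by
    obtain ⟨i, hi⟩ := mem_zpowers_iff.mp (hcb ⟨w, hw, hwT⟩)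
    exact ⟨i, by rw [← SubgroupClass.coe_zpow, hi]⟩
  -- an element outside the torus
  obtain ⟨sb, hsbR, hsbT⟩ : ∃ w ∈ (Rb : Subgroup PSL), w ∉ T := by
    by_contra hno
    push Not at hno
    have hd := card_dvd_of_le (show (Rb : Subgroup PSL) ≤ T from hno)
    have h1 : Rb.index = Rb.index := rfl
    have hi := index_dvd_of_le (show (Rb : Subgroup PSL) ≤ T from hno)
    have h2 : T.index = 2 * (centralizer ({t} : Set PSL)).index := by
      refine index_eq hTk ?_
      rw [← (centralizer ({t} : Set PSL)).index_mul_card, hck]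
      ring
    exact Rb.not_dvd_index ((h2 ▸ dvd_mul_right 2 _ : 2 ∣ T.index).trans hi)
  obtain ⟨s, hsR, hsψ⟩ := hRbmem sb hsbR
  have hinvs : ∀ y ∈ T, sb * y * sb⁻¹ = y⁻¹ := hinv sb (hRle hsbR) hsbT
  set d : G := s * c * s⁻¹ * c⁻¹ with hd
  have hsc : s * c * s⁻¹ = d * c := by rw [hd, inv_mul_cancel_right]
  have hdψ : ψ d = (cb : PSL)⁻¹ * (cb : PSL)⁻¹ := by
    rw [hd, map_mul, map_mul, map_mul, map_inv, map_inv, hsψ, hcψ, hinvs _ cb.2.2]
  set w : G := c * c * d with hwdef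
  have hw : w ∈ center G := by
    rw [← hker, hwdef, map_mul, map_mul, hcψ, hdψ]
    group
  have hwc : ∀ g : G, Commute w g := fun g => (mem_center_iff.mp hw g).symm
  have hdw : d = c⁻¹ * c⁻¹ * w := by rw [hwdef]; group
  have hdc : Commute d c := by
    rw [hdw]
    exact (((Commute.refl c).inv_left).mul_left ((Commute.refl c).inv_left)).mul_left (hwc c)
  have hsd : s * d * s⁻¹ = d⁻¹ := by
    calc s * d * s⁻¹ = (s * c * s⁻¹)⁻¹ * (s * c * s⁻¹)⁻¹ * (s * w * s⁻¹) := by rw [hdw]; group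
      _ = (d * c)⁻¹ * (d * c)⁻¹ * w := by rw [hsc, ← (hwc s).eq, mul_inv_cancel_right]
      _ = d⁻¹ * c⁻¹ * (d⁻¹ * c⁻¹) * w := by rw [hdc.eq, mul_inv_rev]
      _ = d⁻¹ * d⁻¹ * (c⁻¹ * c⁻¹ * w) := by
          rw [show d⁻¹ * c⁻¹ * (d⁻¹ * c⁻¹) * w = d⁻¹ * (c⁻¹ * d⁻¹) * c⁻¹ * w by group, (hdc.inv_inv).symm.eq]
          group
      _ = d⁻¹ := by rw [← hdw]; group
  have hsame : ∀ v u : G, ψ v = ψ u → ∃ z ∈ center G, v = u * z := fun v u h =>
    ⟨u⁻¹ * v, by rw [← hker, map_mul, map_inv, h, inv_mul_cancel], by rw [mul_inv_cancel_left]⟩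
  have hform : ∀ v ∈ (R : Subgroup G), ∃ (i : ℤ) (z : G), z ∈ center G ∧ (v = c ^ i * z ∨ v = s * (c ^ i * z)) := by
    intro v hv
    by_cases hvT : ψ v ∈ T
    · obtain ⟨i, hi⟩ := hgen _ (hmemRb v hv) hvT
      obtain ⟨z, hz, hvz⟩ := hsame v (c ^ i) (by rw [map_zpow, hcψ]; exact hi)
      exact ⟨i, z, hz, Or.inl hvz⟩
    · have hm := mul_mem_of_card hTle (Or.inr (by rw [hck, hTk])) (hRle hsbR) (hRle (hmemRb v hv)) hsbT hvT
      obtain ⟨i, hi⟩ := hgen _ (mul_mem (inv_mem hsbR) (hmemRb v hv)) hm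
      obtain ⟨z, hz, hvz⟩ := hsame v (s * c ^ i) (by rw [map_mul, map_zpow, hcψ, hsψ, ← hi, mul_inv_cancel_left])
      exact ⟨i, z, hz, Or.inr (by rw [hvz, mul_assoc])⟩
  intro z hz hzR
  obtain ⟨i, rfl⟩ := mem_zpowers_iff.mp (commutator_le_zpowers hform hsc hdc hsd hzR)
  -- the order of the generator
  obtain ⟨j, hj⟩ := IsPGroup.iff_orderOf.mp Rb.isPGroup' ⟨(cb : PSL), cb.2.1⟩
  rw [← Subgroup.orderOf_coe] at hj
  change orderOf (cb : PSL) = 2 ^ j at hj
  obtain ⟨j', rfl⟩ : ∃ j', j = j' + 1 := by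
    refine ⟨j - 1, ?_⟩
    rcases Nat.eq_zero_or_pos j with h0 | h0
    · exfalso
      rw [h0, pow_zero, orderOf_eq_one_iff] at hj
      obtain ⟨i', hi'⟩ := hgen t (t' : (Rb : Subgroup PSL)).2 htT
      rw [hj, one_zpow] at hi'
      exact ht1 hi'
    · omega
  -- the element `c ^ (2 ^ j')` lifts an involution
  set u : G := c ^ (2 ^ j' : ℕ) with hudef
  have huψ : orderOf (ψ u) = 2 := by
    rw [hudef, map_pow, hcψ, orderOf_pow' _ (pow_ne_zero _ (by norm_num)), hj,
      Nat.gcd_eq_right (pow_dvd_pow 2 (Nat.le_succ j')), pow_succ, Nat.mul_div_cancel_left _ (Nat.two_pow_pos j')]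
  have huu2 : ψ u * ψ u = 1 := by
    have h := pow_orderOf_eq_one (ψ u)
    rwa [huψ, sq] at h
  have huZ : u ∉ center G := fun h => by rw [(hker u).mpr h, orderOf_one] at huψ; omega
  have hu2 : (u : G ⧸ center G) * u = 1 := e.injective (by
    rw [map_mul, map_one]
    show ψ u * ψ u = 1
    exact huu2)
  have hsu : Commute s u := by
    refine cm (full_invol p hodd P hPq hD e huZ hu2 (mem_qc (e.injective ?_)))
    rw [map_mul, map_mul]
    show ψ s * ψ u = ψ u * ψ s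
    have huT : ψ u ∈ T := by rw [hudef, map_pow, hcψ]; exact pow_mem cb.2.2 _
    have huu : (ψ u)⁻¹ = ψ u := inv_eq_of_mul_eq_one_right huu2
    rw [hsψ]
    exact mul_inv_eq_iff_eq_mul.mp ((hinvs _ huT).trans huu)
  have hdu : d ^ (2 ^ j' : ℕ) = 1 := by
    have h1 : s * u * s⁻¹ = d ^ (2 ^ j' : ℕ) * u := by rw [hudef, ← conj_pow, hsc, hdc.mul_pow]
    rw [hsu.eq, mul_inv_cancel_right] at h1
    exact mul_eq_right.mp h1.symm
  -- exponents
  have h3 : (cb : PSL) ^ (-(2 * i)) = 1 := by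
    have := (hker (d ^ i)).mpr hz
    rw [map_zpow, hdψ, ← mul_inv_rev, inv_zpow, ← sq, ← zpow_natCast, ← zpow_mul, ← zpow_neg] at this
    simpa using this
  have h4' := orderOf_dvd_iff_zpow_eq_one.mpr h3
  rw [dvd_neg, hj, pow_succ', Nat.cast_mul, Nat.cast_ofNat] at h4'
  obtain ⟨a, ha⟩ := (mul_dvd_mul_iff_left (by norm_num : (2 : ℤ) ≠ 0)).mp h4'
  rw [ha, zpow_mul, zpow_natCast, hdu, one_zpow]

end Linear

end CfsgLib.CsPSL

namespace CfsgLib.CsPSL

open Subgroup

variable {F : Type*} [Field F] [Fintype F] {G : Type*} [Group G] [Finite G]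

local notation "PSL" => Matrix.ProjectiveSpecialLinearGroup (Fin 2) F
local notation "q" => Fintype.card F

/-- A group with the class sizes of `PSL₂(q)` is its direct product with an abelian group. -/
theorem direct_product (hq : (2 ∣ q ∧ 2 < q) ∨ (¬ 2 ∣ q ∧ 7 ≤ q))
    (h : Set.range (fun g : G => (centralizer ({g} : Set G)).index) =
      Set.range (fun g : PSL => (centralizer ({g} : Set PSL)).index)) :
    ∃ N A : Subgroup G, N.Normal ∧ A ≤ center G ∧ N ⊓ A = ⊥ ∧ N ⊔ A = ⊤ ∧ Nonempty (N ≃* PSL) := by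
  classical
  obtain ⟨p, hp⟩ := CharP.exists F
  haveI : Fact p.Prime := ⟨CharP.char_is_prime F p⟩
  have h4 : 4 ≤ q := by omega
  haveI : IsSimpleGroup PSL := Matrix.ProjectiveSpecialLinearGroup.rank_two_simple (by
    rw [Nat.card_eq_fintype_card]; omega)
  have hna : ∃ a b : PSL, a * b ≠ b * a := by
    by_contra hall
    push Not at hall
    obtain ⟨u, hu⟩ := CfsgLib.DicksonFull.exists_order_p (F := F) p
    have hc := CfsgLib.DicksonFull.card_cent p hu
    have htop : centralizer ({u} : Set PSL) = ⊤ :=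
      (eq_top_iff' _).mpr fun g => mem_centralizer_singleton_iff.mpr (hall g u)
    have hc' : Nat.card (centralizer ({u} : Set PSL)) = q := hc
    rw [htop, card_top] at hc'
    have h1 := CfsgLib.DicksonFull.card_psl (F := F)
    rw [hc'] at h1
    have h2 : Nat.gcd 2 (q - 1) ≤ 2 := Nat.gcd_le_left _ two_pos
    have h3 := Nat.mul_le_mul_right q h2
    have h5 : 15 ≤ q ^ 2 - 1 := by
      have := Nat.pow_le_pow_left h4 2
      omega
    have h6 := Nat.mul_le_mul_left q h5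
    omega
  rcases hq with ⟨he, h2⟩ | ⟨hodd, h7⟩
  · obtain ⟨e⟩ := quot_even he h2 h
    obtain ⟨-, -, hD, hc1, hc2, hc3⟩ := even_data he h2 h
    refine split_of e hna fun r hr R z _ hzR => ?_
    rw [commutator_eq_bot_of (R := (R : Subgroup G)) (sylow_image_comm p h4 e hr (Or.inr he) R)
      (fun u _ hu => qc_le (by
        rcases tri_quot (by omega) (by omega) (by omega) hc1 hc2 hc3 hD hu with ⟨-, a, b⟩ | ⟨-, a, b⟩ | ⟨-, a, b⟩ <;>
          rw [b, a]))] at hzR
    exact mem_bot.mp hzR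
  · obtain ⟨P, hD, hPq, hPL, ⟨e⟩⟩ := quot_odd hodd h7 h
    refine split_of e hna fun r hr R z hz hzR => ?_
    by_cases hr2 : r = 2
    · subst hr2
      exact sylow_two_odd p hodd P hPq hPL hD e R z hz hzR
    rw [commutator_eq_bot_of (R := (R : Subgroup G)) (sylow_image_comm p h4 e hr (Or.inl hr2) R)
      (fun u huR hu => full_odd p hodd P hPq hD e hu ?_)] at hzR
    · exact mem_bot.mp hzR
    · intro huu
      haveI : Fact r.Prime := ⟨hr⟩
      obtain ⟨i, hi⟩ := IsPGroup.iff_orderOf.mp R.isPGroup' ⟨u, huR⟩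
      have h2' : orderOf (u : G ⧸ center G) = 2 := orderOf_eq_prime (by rw [sq]; exact huu) (quot_ne_one hu)
      have hd : orderOf (u : G ⧸ center G) ∣ orderOf u := orderOf_map_dvd (QuotientGroup.mk' (center G)) u
      rw [h2', show orderOf u = r ^ i by rw [← hi]; exact Subgroup.orderOf_coe ⟨u, huR⟩] at hd
      exact hr2 ((Nat.prime_dvd_prime_iff_eq Nat.prime_two hr).mp (Nat.prime_two.dvd_of_dvd_pow hd)).symm

end CfsgLib.CsPSL
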